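import Groth.Agent.CycB.LocQuot
import Mathlib.AlgebraicGeometry.FunctionField
import Mathlib.RingTheory.KrullDimension.Regular

/-!
# Dimension functions on integral schemes: the dimension of a local ring
-/

set_option autoImplicit false

universe u

open CategoryTheory AlgebraicGeometry
open Groth.Agent.CycB Groth.Agent.CycB.LocQuot

namespace K305.DimIntegral

variable {X : Scheme.{u}} {δ : X → ℤ}

theorem ker_specMap_generic [IsIntegral X] (x : X) (hx : genericPoint X ⤳ x) :
    RingHom.ker (Cyc.specMap x (genericPoint X) hx) = ⊥ := by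
  have : (⊥ : Ideal (X.presheaf.stalk x)).IsPrime := Ideal.isPrime_bot
  obtain ⟨z, hz, h⟩ := exists_eq_ker (⊥ : Ideal (X.presheaf.stalk x))
  rw [eq_bot_iff, h, ker_le_iff hx hz]
  exact genericPoint_specializes z

/-- On an integral scheme with dimension function `δ`, `dim O_{X,x} = δ(η) - δ(x)`. -/
theorem ringKrullDim_stalk [IsIntegral X] (hδ : Cyc.IsDimFun X δ) (x : X) :
    ringKrullDim (X.presheaf.stalk x) = ((δ (genericPoint X) - δ x).toNat : ℕ) := by
  rw [← ringKrullDim_locQuot hδ (genericPoint_specializes x)]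
  refine (ringKrullDim_eq_of_ringEquiv ?_)
  exact ((Ideal.quotEquivOfEq (ker_specMap_generic x _)).trans (RingEquiv.quotientBot _)).symm

theorem ringKrullDim_stalk_eq_one_iff [IsIntegral X] (hδ : Cyc.IsDimFun X δ) (x : X) :
    ringKrullDim (X.presheaf.stalk x) = 1 ↔ δ x = δ (genericPoint X) - 1 := by
  rw [ringKrullDim_stalk hδ]
  have := le_of_specializes hδ (genericPoint_specializes x)
  have h1 : (((δ (genericPoint X) - δ x).toNat : ℕ) : WithBot ℕ∞) = 1 ↔
      (δ (genericPoint X) - δ x).toNat = 1 := by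
    constructor
    · intro h
      exact_mod_cast h
    · intro h
      rw [h]; rfl
  rw [h1]
  omega

theorem delta_eq_sub_one [IsIntegral X] (hX : Cyc.IsSetup X δ) (ξ : X) (g : X.presheaf.stalk ξ)
    (hg0 : g ≠ 0) (hgm : g ∈ IsLocalRing.maximalIdeal (X.presheaf.stalk ξ))
    (hdim : ringKrullDim (X.presheaf.stalk ξ ⧸ Ideal.span {g}) = 0) :
    δ ξ = δ (genericPoint X) - 1 := by
  have := hX.1
  rw [← ringKrullDim_stalk_eq_one_iff hX.2.2,
    ← ringKrullDim_quotient_span_singleton_succ_eq_ringKrullDim_of_mem_nonZeroDivisors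
      (mem_nonZeroDivisors_iff_ne_zero.2 hg0) hgm, hdim]
  rfl

end K305.DimIntegral
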