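import Groth.Agent.CycB.C1Cap
import Groth.Agent.Fdesc.LocGenTensor

/-!
# Divisors of rational sections of tensor products of invertible modules; additivity of `c₁`
-/

set_option autoImplicit false

universe u

open CategoryTheory AlgebraicGeometry
open Groth.Agent.CycB Groth.Agent.CycB.ModStalk Groth.Agent.CycB.C1Basic Groth.Agent.CycB.C1Cap
open Groth.Agent.CycB.DivFun
open Groth.Agent.Fdesc

namespace K305.TensCap

variable {X : Scheme.{u}} {L N : X.Modules}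

theorem isGenOn_of {U : X.Opens} {e : Γ(L, U)} (he : LocGen.IsGen e) : IsGenOn L U e :=
  fun V h => he V h

theorem of_isGenOn {U : X.Opens} {e : Γ(L, U)} (he : IsGenOn L U e) : LocGen.IsGen e :=
  fun V h => he V h

/-- Around a point, generators of `L` and `N` on a common open. -/
theorem exists_gens (hL : PicF.IsInvertible L) (hN : PicF.IsInvertible N) (x : X) :
    ∃ (U : X.Opens) (_ : x ∈ U) (l : Γ(L, U)) (n : Γ(N, U)), LocGen.IsGen l ∧ LocGen.IsGen n := by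
  obtain ⟨U, hxU, l, hl⟩ := exists_isGenOn hL x
  obtain ⟨V, hxV, n, hn⟩ := exists_isGenOn hN x
  exact ⟨U ⊓ V, ⟨hxU, hxV⟩, LocGen.res L inf_le_left l, LocGen.res N inf_le_right n,
    (of_isGenOn hl).res _, (of_isGenOn hn).res _⟩

theorem germ_res {M : X.Modules} {U V : X.Opens} (h : V ≤ U) (x : X) (hx : x ∈ V) (m : Γ(M, U)) :
    M.presheaf.germ V x hx (LocGen.res M h m) = M.presheaf.germ U x (h hx) m :=
  M.presheaf.germ_res_apply (homOfLE h) x hx m

/-- comparison of two pairs of generators at a common point -/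
theorem compare {U V : X.Opens} {l : Γ(L, U)} {n : Γ(N, U)} {l' : Γ(L, V)} {n' : Γ(N, V)}
    (hl' : LocGen.IsGen l') (hn' : LocGen.IsGen n') (ξ : X) (hU : ξ ∈ U) (hV : ξ ∈ V) :
    ∃ a b : X.presheaf.stalk ξ,
      L.presheaf.germ U ξ hU l = a • L.presheaf.germ V ξ hV l' ∧
      N.presheaf.germ U ξ hU n = b • N.presheaf.germ V ξ hV n' ∧
      (CohB1.tensorMod L N).presheaf.germ U ξ hU (LocGen.tmul l n) =
        (a * b) • (CohB1.tensorMod L N).presheaf.germ V ξ hV (LocGen.tmul l' n') := by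
  have hW : ξ ∈ U ⊓ V := ⟨hU, hV⟩
  obtain ⟨a, ha⟩ := (hl'.res (inf_le_right : U ⊓ V ≤ V)).exists_eq (LocGen.res L (inf_le_left : U ⊓ V ≤ U) l)
  obtain ⟨b, hb⟩ := (hn'.res (inf_le_right : U ⊓ V ≤ V)).exists_eq (LocGen.res N (inf_le_left : U ⊓ V ≤ U) n)
  refine ⟨X.presheaf.germ (U ⊓ V) ξ hW a, X.presheaf.germ (U ⊓ V) ξ hW b, ?_, ?_, ?_⟩
  · rw [← germ_res inf_le_left ξ hW l, ← germ_res inf_le_right ξ hW l', ha, germ_smul]
  · rw [← germ_res inf_le_left ξ hW n, ← germ_res inf_le_right ξ hW n', hb, germ_smul]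
  · rw [← germ_res inf_le_left ξ hW (LocGen.tmul l n), ← germ_res inf_le_right ξ hW (LocGen.tmul l' n'),
      LocGen.res_tmul, LocGen.res_tmul, ha, hb, LocGen.smul_tmul, LocGen.tmul_smul, smul_smul,
      germ_smul, map_mul]

/-- Divisors of rational sections of `L`, `N` and `L ⊗ N` at a point `ξ`. -/
theorem exists_secOrdAt_tensor (hL : PicF.IsInvertible L) (hN : PicF.IsInvertible N) {ξ : X}
    {s : Cyc.secFibre L ξ} {t : Cyc.secFibre N ξ} {w : Cyc.secFibre (CohB1.tensorMod L N) ξ}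
    (hs : s ≠ 0) (ht : t ≠ 0) (hw : w ≠ 0) :
    ∃ g : X.residueField ξ, g ≠ 0 ∧ ∀ (x : X) (h : ξ ⤳ x),
      Cyc.secOrdAt L ξ x h s + Cyc.secOrdAt N ξ x h t =
        Cyc.ordAt x ξ h g + Cyc.secOrdAt (CohB1.tensorMod L N) ξ x h w := by
  have hT : PicF.IsInvertible (CohB1.tensorMod L N) := LocGen.isInvertible_tensorMod hL hN
  obtain ⟨U, hU, l, n, hl, hn⟩ := exists_gens hL hN ξ
  have gl := (isGenOn_of hl).isGen ξ hU
  have gn := (isGenOn_of hn).isGen ξ hU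
  have gt := (isGenOn_of (hl.tmul hn)).isGen ξ hU
  obtain ⟨φ, rfl⟩ := exists_smul_cl gl s
  obtain ⟨ψ, rfl⟩ := exists_smul_cl gn t
  obtain ⟨χ, rfl⟩ := exists_smul_cl gt w
  rw [ne_eq, smul_cl_eq_zero_iff gl] at hs
  rw [ne_eq, smul_cl_eq_zero_iff gn] at ht
  rw [ne_eq, smul_cl_eq_zero_iff gt] at hw
  refine ⟨X.residue ξ φ * X.residue ξ ψ * (X.residue ξ χ)⁻¹,
    mul_ne_zero (mul_ne_zero hs ht) (inv_ne_zero hw), ?_⟩
  intro x h
  obtain ⟨V, hV, l', n', hl', hn'⟩ := exists_gens hL hN x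
  have hξV : ξ ∈ V := h.mem_open V.isOpen hV
  obtain ⟨a, b, e1, e2, e3⟩ := compare (l := l) (n := n) hl' hn' ξ hU hξV
  have gl' := (isGenOn_of hl').isGen x hV
  have gn' := (isGenOn_of hn').isGen x hV
  have gt' := (isGenOn_of (hl'.tmul hn')).isGen x hV
  have s1 : L.presheaf.germ V ξ hξV l' = L.presheaf.stalkSpecializes h (L.presheaf.germ V x hV l') :=
    (TopCat.Presheaf.germ_stalkSpecializes_apply L.presheaf hV h l').symm
  have s2 : N.presheaf.germ V ξ hξV n' = N.presheaf.stalkSpecializes h (N.presheaf.germ V x hV n') :=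
    (TopCat.Presheaf.germ_stalkSpecializes_apply N.presheaf hV h n').symm
  have s3 : (CohB1.tensorMod L N).presheaf.germ V ξ hξV (LocGen.tmul l' n') =
      (CohB1.tensorMod L N).presheaf.stalkSpecializes h
        ((CohB1.tensorMod L N).presheaf.germ V x hV (LocGen.tmul l' n')) :=
    (TopCat.Presheaf.germ_stalkSpecializes_apply (CohB1.tensorMod L N).presheaf hV h _).symm
  have ha : X.residue ξ a ≠ 0 := by
    intro h0
    have h1 : cl L ξ (L.presheaf.germ U ξ hU l) ≠ 0 := cl_ne_zero gl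
    rw [e1, map_smul] at h1
    exact h1 ((smul_cl_eq_zero_iff ((isGenOn_of hl').isGen ξ hξV) a).2 h0)
  have hb : X.residue ξ b ≠ 0 := by
    intro h0
    have h1 : cl N ξ (N.presheaf.germ U ξ hU n) ≠ 0 := cl_ne_zero gn
    rw [e2, map_smul] at h1
    exact h1 ((smul_cl_eq_zero_iff ((isGenOn_of hn').isGen ξ hξV) b).2 h0)
  rw [e1, e2, e3, s1, s2, s3, map_smul, map_smul, map_smul, smul_smul, smul_smul, smul_smul,
    secOrdAt_smul hL h gl' _ (by rw [map_mul]; exact mul_ne_zero hs ha),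
    secOrdAt_smul hN h gn' _ (by rw [map_mul]; exact mul_ne_zero ht hb),
    secOrdAt_smul hT h gt' _ (by rw [map_mul, map_mul]; exact mul_ne_zero hw (mul_ne_zero ha hb)),
    map_mul, map_mul, map_mul, map_mul, ordAt_mul h hs ha, ordAt_mul h ht hb,
    ordAt_mul h hw (mul_ne_zero ha hb), ordAt_mul h ha hb,
    ordAt_mul h (mul_ne_zero hs ht) (inv_ne_zero hw), ordAt_mul h hs ht, ordAt_inv h hw]
  ring

theorem exists_secDivFun_tensor (hL : PicF.IsInvertible L) (hN : PicF.IsInvertible N)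
    (δ : X → ℤ) {ξ : X}
    {s : Cyc.secFibre L ξ} {t : Cyc.secFibre N ξ} {w : Cyc.secFibre (CohB1.tensorMod L N) ξ}
    (hs : s ≠ 0) (ht : t ≠ 0) (hw : w ≠ 0) :
    ∃ g : X.residueField ξ, g ≠ 0 ∧
      Cyc.secDivFun δ L ξ s + Cyc.secDivFun δ N ξ t =
        Cyc.divFun δ ξ g + Cyc.secDivFun δ (CohB1.tensorMod L N) ξ w := by
  obtain ⟨g, hg, H⟩ := exists_secOrdAt_tensor hL hN hs ht hw
  refine ⟨g, hg, ?_⟩
  funext x
  simp only [Cyc.secDivFun, Cyc.divFun, Pi.add_apply]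
  split_ifs with h
  · exact H x h.1
  · rfl

/-- **Additivity of the first Chern class.** -/
theorem ratEquiv_add {δ : X → ℤ} (hL : PicF.IsInvertible L) (hN : PicF.IsInvertible N) (k : ℤ)
    (α : AlgebraicCycle X ℤ) (hα : α ∈ Cyc.Zk X δ (k + 1))
    (sL : (ξ : X) → Cyc.secFibre L ξ) (hsL : ∀ ξ, sL ξ ≠ 0)
    (sN : (ξ : X) → Cyc.secFibre N ξ) (hsN : ∀ ξ, sN ξ ≠ 0)
    (sT : (ξ : X) → Cyc.secFibre (CohB1.tensorMod L N) ξ) (hsT : ∀ ξ, sT ξ ≠ 0)
    (γL γN γT : AlgebraicCycle X ℤ) (hγL : ⇑γL = Cyc.c1CapFun δ L ⇑α sL)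
    (hγN : ⇑γN = Cyc.c1CapFun δ N ⇑α sN)
    (hγT : ⇑γT = Cyc.c1CapFun δ (CohB1.tensorMod L N) ⇑α sT) :
    Cyc.RatEquiv δ k (γL + γN) γT := by
  have key : ∀ ξ : X, ∃ g : X.residueField ξ, g ≠ 0 ∧
      Cyc.secDivFun δ L ξ (sL ξ) + Cyc.secDivFun δ N ξ (sN ξ) =
        Cyc.divFun δ ξ g + Cyc.secDivFun δ (CohB1.tensorMod L N) ξ (sT ξ) := fun ξ =>
    exists_secDivFun_tensor hL hN δ (hsL ξ) (hsN ξ) (hsT ξ)
  choose g hg hgs using key
  refine ratEquivZero_of (ι := {ξ : X // α ξ ≠ 0}) (fun ξ => ξ.1) (fun ξ => g ξ.1 ^ α ξ.1)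
    (fun ξ => ?_) (fun ξ => zpow_ne_zero _ (hg ξ.1)) (locFin_support α) _ fun x => ?_
  · by_contra h
    exact ξ.2 (hα ξ.1 h)
  · rw [Function.locallyFinsuppWithin.coe_sub, Function.locallyFinsuppWithin.coe_add,
      Pi.sub_apply, Pi.add_apply, hγL, hγN, hγT, c1CapFun_apply,
      c1CapFun_apply, c1CapFun_apply,
      ← finsum_add_distrib (finite_support_c1 α x sL) (finite_support_c1 α x sN),
      ← finsum_sub_distrib ?_ (finite_support_c1 α x sT)]
    · have h1 : ∀ ξ : {ξ : X // α ξ ≠ 0}, Cyc.divFun δ ξ.1 (g ξ.1 ^ α ξ.1) x =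
          α ξ.1 * Cyc.secDivFun δ L ξ.1 (sL ξ.1) x + α ξ.1 * Cyc.secDivFun δ N ξ.1 (sN ξ.1) x -
            α ξ.1 * Cyc.secDivFun δ (CohB1.tensorMod L N) ξ.1 (sT ξ.1) x := by
        intro ξ
        have h2 := congrFun (hgs ξ.1) x
        rw [Pi.add_apply, Pi.add_apply] at h2
        rw [OrdFrac.divFun_zpow, Pi.smul_apply, smul_eq_mul, ← mul_add, h2]
        ring
      rw [finsum_congr h1]
      refine (RatTransport.finsum_subtype_eq (fun ξ : X => α ξ ≠ 0)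
        (fun ξ : X => α ξ * Cyc.secDivFun δ L ξ (sL ξ) x + α ξ * Cyc.secDivFun δ N ξ (sN ξ) x -
            α ξ * Cyc.secDivFun δ (CohB1.tensorMod L N) ξ (sT ξ) x) ?_).symm
      intro ξ hξ
      rw [not_not] at hξ
      rw [hξ]; ring
    · refine ((finite_support_c1 (δ := δ) α x sL).union (finite_support_c1 (δ := δ) α x sN)).subset ?_
      intro ξ hξ
      by_contra hcon
      rw [Set.mem_union, not_or, Function.notMem_support, Function.notMem_support] at hcon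
      exact hξ (by dsimp only; rw [hcon.1, hcon.2, add_zero])

end K305.TensCap
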