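import Groth.Agent.Cyc.K305.VBBC
import Groth.Agent.Cyc.K305.VBLoc

/-!
# Points of relative spectra of symmetric algebras

For `g : T ⟶ A.spec` over `f : T ⟶ S`:
* `fn g hf U : A(U) ⟶ Γ(T, f⁻¹ U)`;
* `ext`: for `A = Sym E`, the morphism `g` is determined by the functions `fn g hf U (j e)`;
* `exists_pt`: and these can be prescribed.
-/

set_option autoImplicit false
universe u

open CategoryTheory CategoryTheory.Limits AlgebraicGeometry Opposite TopologicalSpace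

namespace K305.VBPt

open Groth.Agent.Fdesc.LocGen K36.QSpec K36.SymAlg K305.VBBC
open Groth.Agent.CohqB.SymLoc (desc desc_algebraMap desc_ι)

variable {S : Scheme.{u}} {A : RelSpec.QCAlg S} {T T' : Scheme.{u}} {f : T ⟶ S} {f' : T' ⟶ S}

theorem le_pre (g : T ⟶ A.spec) (hf : g ≫ A.π = f) (U : S.Opens) :
    f ⁻¹ᵁ U ≤ g ⁻¹ᵁ (A.π ⁻¹ᵁ U) := by
  subst hf
  exact le_rfl

/-- The functions of a point. -/
noncomputable def fn (g : T ⟶ A.spec) (hf : g ≫ A.π = f) (U : S.Opens) :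
    A.presheaf.obj (op U) ⟶ Γ(T, f ⁻¹ᵁ U) :=
  thetaApp A U ≫ g.appLE (A.π ⁻¹ᵁ U) (f ⁻¹ᵁ U) (le_pre g hf U)

variable (A) in
/-- The data of the identity. -/
theorem exists_id : ∃ v : A.spec ⟶ A.spec, v = 𝟙 _ ∧ ∀ (U : S.Opens) (hU : IsAffineOpen U),
    (A.π ⁻¹ᵁ U).ι ≫ v = (A.π ⁻¹ᵁ U).toSpecΓ ≫ Spec.map (thetaApp A U) ≫ A.ι U hU := by
  let d : Groth.Agent.CohqB.RelSpec.LiftData
      (Functor.whiskerLeft (Scheme.AffineZariskiSite.toOpensFunctor S).op A.str) A.π :=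
    { ψ := fun U => thetaApp A U.1
      nat := fun i => thetaApp_res A (Scheme.AffineZariskiSite.toOpens_mono i.le)
      comp := fun U => str_thetaApp A U.1 }
  let v : A.spec ⟶ A.spec := Groth.Agent.CohqB.RelSpec.lift A.coequifibered d
  have hv : ∀ (U : S.Opens) (hU : IsAffineOpen U), (A.π ⁻¹ᵁ U).ι ≫ v =
      (A.π ⁻¹ᵁ U).toSpecΓ ≫ Spec.map (thetaApp A U) ≫ A.ι U hU := fun U hU =>
    Groth.Agent.CohqB.RelSpec.ι_lift A.coequifibered d ⟨U, hU⟩
  refine ⟨v, ?_, hv⟩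
  refine K36.SpecLocal.hom_ext A fun U hU => ?_
  rw [comp_eq_of_appLE (A.ι U hU) (A.π ⁻¹ᵁ U) (A.top_le_preimage U hU) (thetaApp A U) (A.ι U hU) v
    (hv U hU), Category.comp_id]
  have h1 := thetaApp_gammaAff A U hU
  rw [RelSpec.QCAlg.gammaAff] at h1
  rw [h1, Spec.map_id, Category.id_comp]

theorem ι_eq (U : S.Opens) (hU : IsAffineOpen U) :
    (A.π ⁻¹ᵁ U).ι = (A.π ⁻¹ᵁ U).toSpecΓ ≫ Spec.map (thetaApp A U) ≫ A.ι U hU := by
  obtain ⟨v, rfl, hv⟩ := exists_id A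
  rw [← hv U hU, Category.comp_id]

theorem ι_pt (g : T ⟶ A.spec) (hf : g ≫ A.π = f) (U : S.Opens) (hU : IsAffineOpen U) :
    (f ⁻¹ᵁ U).ι ≫ g = (f ⁻¹ᵁ U).toSpecΓ ≫ Spec.map (fn g hf U) ≫ A.ι U hU := by
  rw [fn, Spec.map_comp, Category.assoc, Scheme.Opens.toSpecΓ_SpecMap_appLE_assoc, ← ι_eq U hU,
    Scheme.Hom.resLE_comp_ι]

theorem str_fn (g : T ⟶ A.spec) (hf : g ≫ A.π = f) (U : S.Opens) (r : Γ(S, U)) :
    fn g hf U ((A.str.app (op U)).hom r) = f.app U r := by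
  subst hf
  have h1 := str_thetaApp A U
  have h2 : A.str.app (op U) ≫ fn g rfl U = (g ≫ A.π).app U := by
    rw [fn, ← Category.assoc, h1, Scheme.Hom.app_eq_appLE, Scheme.Hom.appLE_comp_appLE,
      Scheme.Hom.app_eq_appLE]
  exact congr(($h2).hom r)

/-- Points are determined by their functions. -/
theorem ext_fn {g g' : T ⟶ A.spec} (hf : g ≫ A.π = f) (hf' : g' ≫ A.π = f)
    (h : ∀ (U : S.Opens), IsAffineOpen U → fn g hf U = fn g' hf' U) : g = g' := by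
  choose U hU hx using fun x : S => (Opens.isBasis_iff_nbhd.mp S.isBasis_affineOpens)
    (show x ∈ (⊤ : S.Opens) from trivial)
  refine K36.GlueAff.hom_ext_opens (fun x : S => f ⁻¹ᵁ U x) (fun y => ⟨f y, (hx _).1⟩) fun x => ?_
  rw [ι_pt g hf (U x) (hU x), ι_pt g' hf' (U x) (hU x), h _ (hU x)]

variable {E : S.Modules} {j : E ⟶ A.toModule}

theorem ext (hE : Coh.IsQCoh E) (hA : RelSpec.IsSymAlg E A j) {g g' : T ⟶ A.spec}
    (hf : g ≫ A.π = f) (hf' : g' ≫ A.π = f)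
    (h : ∀ (U : S.Opens), IsAffineOpen U → ∀ e : Γ(E, U),
      fn g hf U (jApp E A j U e) = fn g' hf' U (jApp E A j U e)) : g = g' := by
  refine ext_fn hf hf' fun U hU => ?_
  ext x
  refine congr($(hom_ext_A hE hA hU (f := (fn g hf U).hom) (f' := (fn g' hf' U).hom) ?_ ?_) x)
  · intro r
    exact (str_fn g hf U r).trans (str_fn g' hf' U r).symm
  · exact h U hU

theorem fn_comp (p : T' ⟶ T) (g : T ⟶ A.spec) (hf : g ≫ A.π = f) (hf' : (p ≫ g) ≫ A.π = f')
    (U : S.Opens) (h : f' ⁻¹ᵁ U ≤ p ⁻¹ᵁ (f ⁻¹ᵁ U)) (x : A.presheaf.obj (op U)) :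
    fn (p ≫ g) hf' U x = p.appLE (f ⁻¹ᵁ U) (f' ⁻¹ᵁ U) h (fn g hf U x) := by
  have h2 : fn (p ≫ g) hf' U = fn g hf U ≫ p.appLE (f ⁻¹ᵁ U) (f' ⁻¹ᵁ U) h := by
    rw [fn, fn, Category.assoc, Scheme.Hom.appLE_comp_appLE]
  exact congr(($h2).hom x)

theorem fn_specMap_self {B : RelSpec.QCAlg S} (φ : A ⟶ B) (U : S.Opens) (hU : IsAffineOpen U) :
    fn (RelSpec.QCAlg.specMap φ) (RelSpec.QCAlg.specMap_π φ) U = φ.hom.app (op U) ≫ thetaApp B U := by
  have := isIso_gammaAff B U hU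
  rw [← cancel_mono (B.gammaAff U hU), Category.assoc, thetaApp_gammaAff, Category.comp_id]
  have h1 := K305.VBLoc.app_specMap φ U hU
  have h2 : (RelSpec.QCAlg.specMap φ).app (A.π ⁻¹ᵁ U) ≫ (B.ι U hU).appLE
      (RelSpec.QCAlg.specMap φ ⁻¹ᵁ (A.π ⁻¹ᵁ U)) ⊤ (K305.VBLoc.top_le φ U hU) =
      (RelSpec.QCAlg.specMap φ).appLE (A.π ⁻¹ᵁ U) (B.π ⁻¹ᵁ U)
        (le_pre _ (RelSpec.QCAlg.specMap_π φ) U) ≫ (B.ι U hU).appLE (B.π ⁻¹ᵁ U) ⊤
          (B.top_le_preimage U hU) := by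
    rw [Scheme.Hom.app_eq_appLE, Scheme.Hom.appLE_comp_appLE, Scheme.Hom.appLE_comp_appLE]
  rw [← Category.assoc, h2] at h1
  rw [fn, RelSpec.QCAlg.gammaAff, Category.assoc, ← Category.assoc (Scheme.Hom.appLE _ _ _ _), h1,
    ← Category.assoc, thetaApp_gammaAff, Category.id_comp]

theorem fn_specMap {B : RelSpec.QCAlg S} (φ : A ⟶ B) (g : T ⟶ B.spec) (hf : g ≫ B.π = f)
    (hf' : (g ≫ RelSpec.QCAlg.specMap φ) ≫ A.π = f) (U : S.Opens) (hU : IsAffineOpen U)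
    (x : A.presheaf.obj (op U)) :
    fn (g ≫ RelSpec.QCAlg.specMap φ) hf' U x = fn g hf U ((φ.hom.app (op U)).hom x) := by
  rw [fn_comp g (RelSpec.QCAlg.specMap φ) (RelSpec.QCAlg.specMap_π φ) hf' U
    (le_pre g hf U), fn_specMap_self φ U hU]
  rfl

/-- **Existence of points.** -/
theorem exists_pt (hE : Coh.IsQCoh E) (hA : RelSpec.IsSymAlg E A j) (f : T ⟶ S)
    (l : ∀ U : S.Opens, Γ(E, U) →+ Γ(T, f ⁻¹ᵁ U))
    (hl : ∀ U r e, l U (r • e) = f.app U r * l U e)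
    (hres : ∀ {U V : S.Opens} (h : V ≤ U) (e : Γ(E, U)), l V (res E h e) =
      T.presheaf.map (homOfLE (f.preimage_mono h)).op (l U e)) :
    ∃ (g : T ⟶ A.spec) (hf : g ≫ A.π = f), ∀ (U : S.Opens), IsAffineOpen U → ∀ e : Γ(E, U),
      fn g hf U (jApp E A j U e) = l U e := by
  have key : ∀ (U : S.Opens), IsAffineOpen U → ∃ v : A.presheaf.obj (op U) ⟶ Γ(T, f ⁻¹ᵁ U),
      (∀ r, v.hom ((A.str.app (op U)).hom r) = (f.app U).hom r) ∧
      ∀ e, v.hom (jApp E A j U e) = l U e := by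
    intro U hU
    let σ := RingEquiv.ofBijective _ (bijective_symHom hE hA U hU)
    let F : SymmetricAlgebra Γ(S, U) Γ(E, U) →+* Γ(T, f ⁻¹ᵁ U) :=
      desc (f.app U).hom (l U) (hl U)
    refine ⟨CommRingCat.ofHom (F.comp σ.symm.toRingHom), fun r => ?_, fun e => ?_⟩
    · have h1 : σ.symm ((A.str.app (op U)).hom r) = algebraMap _ _ r := by
        rw [RingEquiv.symm_apply_eq]
        exact (symHom_algebraMap E A j U r).symm
      change F (σ.symm _) = _
      rw [h1]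
      exact desc_algebraMap _ _ _ r
    · have h1 : σ.symm (jApp E A j U e) = SymmetricAlgebra.ι _ _ e := by
        rw [RingEquiv.symm_apply_eq]
        exact (symHom_ι E A j U e).symm
      change F (σ.symm _) = _
      rw [h1]
      exact desc_ι _ _ _ e
  choose v hv1 hv2 using key
  let d : Groth.Agent.CohqB.RelSpec.LiftData
      (Functor.whiskerLeft (Scheme.AffineZariskiSite.toOpensFunctor S).op A.str) f :=
    { ψ := fun U => v U.1 U.2
      nat := by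
        intro U V i
        have hle : U.1 ≤ V.1 := Scheme.AffineZariskiSite.toOpens_mono i.le
        change A.presheaf.map (homOfLE hle).op ≫ v U.1 U.2 =
          v V.1 V.2 ≫ T.presheaf.map (homOfLE (f.preimage_mono hle)).op
        ext x
        refine congr($(hom_ext_A hE hA V.2 (f := (A.presheaf.map (homOfLE hle).op ≫
          v U.1 U.2).hom) (f' := (v V.1 V.2 ≫
            T.presheaf.map (homOfLE (f.preimage_mono hle)).op).hom) ?_ ?_) x)
        · intro r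
          have h1 : (A.presheaf.map (homOfLE hle).op).hom ((A.str.app (op V.1)).hom r) =
              (A.str.app (op U.1)).hom ((S.presheaf.map (homOfLE hle).op).hom r) :=
            congr(($(A.str.naturality (homOfLE hle).op)).hom r).symm
          change (v U.1 U.2).hom ((A.presheaf.map _).hom ((A.str.app (op V.1)).hom r)) =
            (T.presheaf.map _).hom ((v V.1 V.2).hom ((A.str.app (op V.1)).hom r))
          rw [h1, hv1, hv1]
          exact congr(($(f.naturality (homOfLE hle).op)).hom r)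
        · intro e
          change (v U.1 U.2).hom ((A.presheaf.map _).hom (jApp E A j V.1 e)) =
            (T.presheaf.map _).hom ((v V.1 V.2).hom (jApp E A j V.1 e))
          rw [← jApp_res, hv2, hv2]
          exact hres hle e
      comp := by
        intro U
        ext r
        exact hv1 U.1 U.2 r }
  let g : T ⟶ A.spec := Groth.Agent.CohqB.RelSpec.lift A.coequifibered d
  have hf : g ≫ A.π = f := Groth.Agent.CohqB.RelSpec.lift_toBase A.coequifibered d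
  have hg : ∀ (U : S.Opens) (hU : IsAffineOpen U), (f ⁻¹ᵁ U).ι ≫ g =
      (f ⁻¹ᵁ U).toSpecΓ ≫ Spec.map (v U hU) ≫ A.ι U hU := fun U hU =>
    Groth.Agent.CohqB.RelSpec.ι_lift A.coequifibered d ⟨U, hU⟩
  refine ⟨g, hf, fun U hU e => ?_⟩
  rw [← hv2 U hU e]
  have h1 : fn g hf U = v U hU := by
    have h2 := ι_pt g hf U hU
    rw [hg U hU, ← Category.assoc, ← Category.assoc, cancel_mono] at h2
    have key : ∀ w : A.presheaf.obj (op U) ⟶ Γ(T, f ⁻¹ᵁ U),
        ((f ⁻¹ᵁ U).toSpecΓ ≫ Spec.map w).appTop =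
          (Scheme.ΓSpecIso _).hom ≫ w ≫ (f ⁻¹ᵁ U).topIso.inv := by
      intro w
      rw [Scheme.Hom.comp_appTop, Scheme.Opens.toSpecΓ_appTop, ← Category.assoc,
        Scheme.ΓSpecIso_naturality, Category.assoc]
    have h3 := congrArg (fun z => Scheme.Hom.appTop z) h2
    simp only [key] at h3
    rw [cancel_epi, cancel_mono] at h3
    exact h3.symm
  rw [h1]

end K305.VBPt
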