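import Groth.Agent.CycB.C1Cap
import Groth.Agent.CycB.PushStalk

/-!
# Capping with the first Chern class of the structure sheaf
-/

set_option autoImplicit false

universe u

open CategoryTheory AlgebraicGeometry
open Groth.Agent.CycB Groth.Agent.CycB.ModStalk Groth.Agent.CycB.C1Basic Groth.Agent.CycB.C1Cap
open Groth.Agent.CycB.DivFun

namespace K305.StructCap

variable {X : Scheme.{u}}

theorem isInvertible_structureModule (X : Scheme.{u}) :
    PicF.IsInvertible (Coh.structureModule X) :=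
  fun _ => ⟨⊤, trivial, ⟨Scheme.Modules.restrictUnitIso _⟩⟩

/-- the generator `1` of the stalk of the structure module -/
noncomputable def one (x : X) : (Coh.structureModule X).presheaf.stalk x :=
  (Coh.structureModule X).presheaf.germ ⊤ x trivial (1 : Γ(X, ⊤))

theorem isGen_one (x : X) : IsGen (Coh.structureModule X) x (one x) :=
  PushStalk.unitStalkLin_bijective x

theorem stalkSpecializes_one {x ξ : X} (h : ξ ⤳ x) :
    (Coh.structureModule X).presheaf.stalkSpecializes h (one x) = one ξ :=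
  TopCat.Presheaf.germ_stalkSpecializes_apply (Coh.structureModule X).presheaf (U := ⊤) (y := x) trivial h _

theorem secOrdAt_one {ξ x : X} (h : ξ ⤳ x) :
    Cyc.secOrdAt (Coh.structureModule X) ξ x h (cl _ ξ (one ξ)) = 0 := by
  have h1 := secOrdAt_smul (isInvertible_structureModule X) h (isGen_one x) (1 : X.presheaf.stalk ξ)
    (by rw [map_one]; exact one_ne_zero)
  rw [stalkSpecializes_one, one_smul, map_one, ordAt_one] at h1
  exact h1

theorem c1CapFun_one (δ : X → ℤ) (α : X → ℤ) :
    Cyc.c1CapFun δ (Coh.structureModule X) α (fun ξ => cl _ ξ (one ξ)) = 0 := by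
  funext x
  rw [c1CapFun_apply, Pi.zero_apply]
  refine finsum_eq_zero_of_forall_eq_zero fun ξ => ?_
  have : Cyc.secDivFun δ (Coh.structureModule X) ξ (cl _ ξ (one ξ)) x = 0 := by
    by_cases h : ξ ⤳ x ∧ δ x + 1 = δ ξ
    · rw [secDivFun_apply δ _ h.1 h.2, secOrdAt_one]
    · exact secDivFun_eq_zero δ _ h _
  rw [this, mul_zero]

theorem ratEquivZero {δ : X → ℤ} (k : ℤ) (α : AlgebraicCycle X ℤ) (hα : α ∈ Cyc.Zk X δ (k + 1))
    (s : (ξ : X) → Cyc.secFibre (Coh.structureModule X) ξ) (hs : ∀ ξ, s ξ ≠ 0)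
    (γ : AlgebraicCycle X ℤ) (hγ : ⇑γ = Cyc.c1CapFun δ (Coh.structureModule X) ⇑α s) :
    Cyc.RatEquivZero δ k γ := by
  have h := ratEquiv_of_c1CapFun (isInvertible_structureModule X) k α hα s
    (fun ξ => cl _ ξ (one ξ)) (fun ξ _ => hs ξ) (fun ξ _ => cl_ne_zero (isGen_one ξ)) γ 0 hγ
    (by rw [c1CapFun_one]; rfl)
  exact ratEquiv_zero_iff.1 h

end K305.StructCap
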