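import Groth.Agent.CycB.C1Fin
import Groth.Prelude.Def_CAlg
import Groth.Agent.S2089
import Mathlib.Topology.LocallyConstant.Basic

/-!
# Maximal points near a point of a locally Noetherian scheme; local equidimensionality
-/

set_option autoImplicit false

universe u

open CategoryTheory AlgebraicGeometry TopologicalSpace
open Groth.Agent.CycB Groth.Agent.CycB.LocQuot

namespace K305.MaxPts

variable {X : Scheme.{u}} {δ : X → ℤ}

/-- `ξ` has no proper generization. -/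
def IsMaxPt (ξ : X) : Prop := ∀ ξ' : X, ξ' ⤳ ξ → ξ' = ξ

theorem isMaxPt_ptOf {x : X} (P : Ideal (X.presheaf.stalk x)) (hP : P ∈ minimalPrimes (X.presheaf.stalk x)) :
    IsMaxPt (ptOf (⟨P, hP.1.1⟩ : PrimeSpectrum (X.presheaf.stalk x))) := by
  intro z hz
  have h1 : z ⤳ x := hz.trans (ptOf_specializes _)
  have h2 : primeOf h1 ≤ ⟨P, hP.1.1⟩ := by
    have := (primeOf_le_iff h1 (ptOf_specializes (⟨P, hP.1.1⟩ : PrimeSpectrum (X.presheaf.stalk x)))).2 hz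
    rwa [primeOf_ptOf] at this
  have h3 : P ≤ (primeOf h1).asIdeal := hP.2 ⟨(primeOf h1).2, bot_le⟩ h2
  have h4 : primeOf h1 = ⟨P, hP.1.1⟩ := le_antisymm h2 h3
  rw [← h4, ptOf_primeOf]

theorem exists_maxPt (x : X) : ∃ ξ : X, ξ ⤳ x ∧ IsMaxPt ξ := by
  obtain ⟨P, hP, -⟩ := Ideal.exists_minimalPrimes_le (I := (⊥ : Ideal (X.presheaf.stalk x)))
    (J := IsLocalRing.maximalIdeal (X.presheaf.stalk x)) bot_le
  exact ⟨_, ptOf_specializes _, isMaxPt_ptOf P hP⟩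

theorem mem_minimalPrimes_of_isMaxPt {x ξ : X} (h : ξ ⤳ x) (hξ : IsMaxPt ξ) :
    RingHom.ker (Cyc.specMap x ξ h) ∈ minimalPrimes (X.presheaf.stalk x) := by
  refine ⟨⟨?_, bot_le⟩, ?_⟩
  · rw [← primeOf_asIdeal]; exact (primeOf h).2
  · rintro Q ⟨hQ, -⟩ hle
    obtain ⟨z, hz, rfl⟩ := exists_eq_ker Q
    rw [ker_le_iff hz h] at hle
    have := hξ z hle
    subst this
    exact le_rfl

/-- every point has a neighbourhood in which every maximal point specializes to the given point. -/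
theorem exists_nhd [IsLocallyNoetherian X] (x : X) :
    ∃ U : X.Opens, x ∈ U ∧ ∀ ξ : X, ξ ∈ U → IsMaxPt ξ → ξ ⤳ x := by
  obtain ⟨U, hU, hxU, hfin⟩ := C1Fin.locallyFinite_minimal x
  let S : Set X := {ξ | ξ ∈ U ∧ IsMaxPt ξ ∧ ¬ ξ ⤳ x}
  have hS : S.Finite := hfin.subset fun ξ hξ => ⟨hξ.1, fun z hz => hξ.2.1 z hz⟩
  have hcl : IsClosed (⋃ ξ ∈ S, closure ({ξ} : Set X)) := hS.isClosed_biUnion fun _ _ => isClosed_closure
  refine ⟨⟨U ∩ (⋃ ξ ∈ S, closure ({ξ} : Set X))ᶜ, hU.inter hcl.isOpen_compl⟩, ⟨hxU, ?_⟩, ?_⟩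
  · intro hx
    rw [Set.mem_iUnion₂] at hx
    obtain ⟨ξ, hξ, hx⟩ := hx
    exact hξ.2.2 (specializes_iff_mem_closure.2 hx)
  · rintro ξ ⟨h1, h2⟩ hξ
    by_contra h
    exact h2 (Set.mem_iUnion₂.2 ⟨ξ, ⟨h1, hξ, h⟩, subset_closure rfl⟩)

theorem exists_locallyConstant [IsLocallyNoetherian X]
    (h3 : ∀ x : X, ∃ n : ℤ, ∀ ξ : X, (∀ ξ' : X, ξ' ⤳ ξ → ξ' = ξ) → ξ ⤳ x → δ ξ = n) :
    ∃ c : X → ℤ, IsLocallyConstant c ∧ ∀ ξ : X, (∀ ξ' : X, ξ' ⤳ ξ → ξ' = ξ) → δ ξ = c ξ := by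
  choose c hc using h3
  refine ⟨c, ?_, fun ξ hξ => hc ξ ξ hξ (specializes_refl ξ)⟩
  rw [IsLocallyConstant.iff_exists_open]
  intro x
  obtain ⟨U, hxU, hU⟩ := exists_nhd x
  refine ⟨U, U.isOpen, hxU, fun y hy => ?_⟩
  obtain ⟨ξ, hξy, hξ⟩ := exists_maxPt y
  have h1 : ξ ∈ U := hξy.mem_open U.isOpen hy
  rw [← hc y ξ hξ hξy, ← hc x ξ hξ (hU ξ h1 hξ)]

theorem ringKrullDim_quotient_eq_of_CM {R : Type u} [CommRing R] (hR : LocCoh.IsCohenMacaulayLocalRing R)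
    (p : Ideal R) (hp : p ∈ minimalPrimes R) : ringKrullDim (R ⧸ p) = ringKrullDim R := by
  apply le_antisymm (ringKrullDim_quotient_le p)
  have h1 : p ∈ associatedPrimes R R := by
    have : p ∈ (Module.annihilator R R).minimalPrimes := by
      have h0 : Module.annihilator R R = ⊥ := by
        rw [eq_bot_iff]
        intro a ha
        have := Module.mem_annihilator.1 ha 1
        simpa using this
      rw [h0]
      exact hp
    exact Module.associatedPrimes.minimalPrimes_annihilator_subset_associatedPrimes R R this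
  have h2 := Groth.Agent.S2089.result (R := R) (M := R) p h1
  rw [← hR.supportDim_eq_depth] at h2
  refine le_trans (le_of_eq ?_) h2
  rw [Module.supportDim_self_eq_ringKrullDim]

theorem equidim_of_CM (hX : Cyc.IsSetup X δ) (x : X)
    (hCM : LocCoh.IsCohenMacaulayLocalRing (X.presheaf.stalk x)) :
    ∃ n : ℤ, ∀ ξ : X, IsMaxPt ξ → ξ ⤳ x → δ ξ = n := by
  obtain ⟨ξ₀, h₀, hξ₀⟩ := exists_maxPt x
  refine ⟨δ ξ₀, fun ξ hξ h => ?_⟩
  have h1 := ringKrullDim_quotient_eq_of_CM hCM _ (mem_minimalPrimes_of_isMaxPt h hξ)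
  have h2 := ringKrullDim_quotient_eq_of_CM hCM _ (mem_minimalPrimes_of_isMaxPt h₀ hξ₀)
  have h3 := ringKrullDim_locQuot hX.2.2 h
  have h4 := ringKrullDim_locQuot hX.2.2 h₀
  have h5 := le_of_specializes hX.2.2 h
  have h6 := le_of_specializes hX.2.2 h₀
  have h7 : (((δ ξ - δ x).toNat : ℕ) : WithBot ℕ∞) = (((δ ξ₀ - δ x).toNat : ℕ) : WithBot ℕ∞) := by
    rw [← h3, ← h4]
    exact h1.trans h2.symm
  have h8 : (δ ξ - δ x).toNat = (δ ξ₀ - δ x).toNat := by exact_mod_cast h7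
  omega

theorem locally_equidimensional (hX : Cyc.IsSetup X δ)
    (hCM : ∀ x : X, LocCoh.IsCohenMacaulayLocalRing ↑(X.presheaf.stalk x)) (x : X) :
    ∃ (U : X.Opens) (n : ℤ), x ∈ U ∧
      ∀ ξ : X, ξ ∈ U → (∀ ξ' : X, ξ' ⤳ ξ → ξ' = ξ) → δ ξ = n := by
  have := hX.1
  obtain ⟨U, hxU, hU⟩ := exists_nhd x
  obtain ⟨n, hn⟩ := equidim_of_CM hX x (hCM x)
  exact ⟨U, n, hxU, fun ξ h1 h2 => hn ξ h2 (hU ξ h1 h2)⟩

end K305.MaxPts
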