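import Groth.Agent.CycB.LocQuot
import Mathlib.Topology.KrullDimension
import Mathlib.Topology.JacobsonSpace

/-!
# Dimension of closures of points through a dimension function, Jacobson case
-/

set_option autoImplicit false

universe u

open CategoryTheory AlgebraicGeometry TopologicalSpace
open Groth.Agent.CycB Groth.Agent.CycB.LocQuot

namespace K305.TopDim

section Top

variable {T : Type u} [TopologicalSpace T]

/-- the closure of a point as an irreducible closed set -/
def clPt (x : T) : IrreducibleCloseds T := ⟨closure {x}, isIrreducible_singleton.closure, isClosed_closure⟩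

theorem clPt_le_iff {x y : T} : clPt x ≤ clPt y ↔ y ⤳ x := by
  change closure {x} ⊆ closure {y} ↔ _
  rw [specializes_iff_closure_subset]

theorem clPt_lt {x y : T} (h : y ⤳ x) (hne : ¬ x ⤳ y) : clPt x < clPt y := by
  refine lt_of_le_not_ge (clPt_le_iff.2 h) ?_
  rw [clPt_le_iff]
  exact hne

variable [QuasiSober T]

noncomputable def gen (C : IrreducibleCloseds T) : T := C.isIrreducible.genericPoint

theorem closure_gen (C : IrreducibleCloseds T) : closure {gen C} = (C : Set T) :=
  C.isIrreducible.closure_genericPoint C.isClosed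

theorem clPt_gen (C : IrreducibleCloseds T) : clPt (gen C) = C :=
  IrreducibleCloseds.ext (closure_gen C)

omit [QuasiSober T] in
theorem exists_series [T0Space T] (d : T → ℤ) (h1 : ∀ x y : T, x ⤳ y → x ≠ y → d y < d x)
    (h2 : ∀ x y : T, x ⤳ y → x ≠ y → ∃ z, x ⤳ z ∧ z ⤳ y ∧ d z + 1 = d x) (n : ℕ) :
    ∀ x z : T, x ⤳ z → d x - d z = n → ∃ p : LTSeries (IrreducibleCloseds T),
      p.last = clPt x ∧ p.length = n := by
  induction n with
  | zero =>
    intro x z _ _
    exact ⟨RelSeries.singleton _ (clPt x), rfl, rfl⟩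
  | succ n ih =>
    intro x z hxz hd
    have hne : x ≠ z := by rintro rfl; omega
    obtain ⟨w, hw1, hw2, hw3⟩ := h2 x z hxz hne
    obtain ⟨p, hp1, hp2⟩ := ih w z hw2 (by push_cast at hd; omega)
    have hlt : p.last < clPt x := by
      rw [hp1]
      refine clPt_lt hw1 fun h => ?_
      have := (Specializes.antisymm h hw1).eq
      rw [this] at hw3
      omega
    refine ⟨p.snoc (clPt x) hlt, by simp, by simp [hp2]⟩

theorem topologicalKrullDim_eq [T0Space T] (d : T → ℤ) (h1 : ∀ x y : T, x ⤳ y → x ≠ y → d y < d x)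
    (h2 : ∀ x y : T, x ⤳ y → x ≠ y → ∃ z, x ⤳ z ∧ z ⤳ y ∧ d z + 1 = d x) (h3 : ∀ x, 0 ≤ d x)
    (η : T) (hη : ∀ x, η ⤳ x) (z₀ : T) (hz₀ : d z₀ = 0) :
    topologicalKrullDim T = ((d η).toNat : WithBot ℕ∞) := by
  have hmax : ∀ x, d x ≤ d η := by
    intro x
    by_cases h : η = x
    · rw [h]
    · exact (h1 _ _ (hη x) h).le
  apply le_antisymm
  · unfold topologicalKrullDim Order.krullDim
    refine iSup_le fun p => ?_
    have key : ∀ i : ℕ, ∀ hi : i < p.length + 1, (i : ℤ) ≤ d (gen (p ⟨i, hi⟩)) := by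
      intro i
      induction i with
      | zero => intro hi; exact_mod_cast h3 _
      | succ i ih =>
        intro hi
        have h4 := ih (by omega)
        have h5 : p ⟨i, by omega⟩ < p ⟨i + 1, hi⟩ := p.strictMono (by simp [Fin.lt_def])
        have h6 : gen (p ⟨i + 1, hi⟩) ⤳ gen (p ⟨i, by omega⟩) := by
          rw [← clPt_le_iff, clPt_gen, clPt_gen]
          exact h5.le
        have h7 : gen (p ⟨i + 1, hi⟩) ≠ gen (p ⟨i, by omega⟩) := by
          intro e
          apply h5.ne
          rw [← clPt_gen (p ⟨i, _⟩), ← clPt_gen (p ⟨i + 1, _⟩), e]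
        have := h1 _ _ h6 h7
        push_cast
        omega
    have h8 := key p.length (by omega)
    have h9 := hmax (gen (p ⟨p.length, by omega⟩))
    have h10 : p.length ≤ (d η).toNat := by omega
    exact_mod_cast h10
  · obtain ⟨p, -, hp⟩ := exists_series d h1 h2 (d η).toNat η z₀ (hη z₀) (by
      have := h3 η
      omega)
    rw [← hp]
    exact Order.LTSeries.length_le_krullDim p

end Top

variable {X : Scheme.{u}} {δ : X → ℤ}

theorem exists_closed [JacobsonSpace X] (ξ : X) : ∃ z : X, ξ ⤳ z ∧ IsClosed ({z} : Set X) := by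
  have h := JacobsonSpace.closure_inter_closedPoints (X := X) (isClosed_closure (s := ({ξ} : Set X)))
  have h1 : (closure ({ξ} : Set X) ∩ closedPoints X).Nonempty := by
    by_contra hcon
    rw [Set.not_nonempty_iff_eq_empty] at hcon
    rw [hcon, closure_empty] at h
    exact (h ▸ subset_closure (s := ({ξ} : Set X)) rfl : ξ ∈ (∅ : Set X))
  obtain ⟨z, hz1, hz2⟩ := h1
  exact ⟨z, specializes_iff_mem_closure.2 hz1, hz2⟩

theorem main [JacobsonSpace X] (hX : Cyc.IsSetup X δ)
    (h0 : ∀ x : X, IsClosed ({x} : Set X) → δ x = 0) (ξ : X) :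
    (topologicalKrullDim ↥(closure ({ξ} : Set X)) = ((δ ξ).toNat : WithBot ℕ∞) ∧ 0 ≤ δ ξ) ∧
      ∀ (z : X) (h : ξ ⤳ z), IsClosed ({z} : Set X) →
        ringKrullDim (Cyc.LocQuot z ξ h) = ((δ ξ).toNat : WithBot ℕ∞) := by
  have hnn : ∀ x : X, 0 ≤ δ x := by
    intro x
    obtain ⟨z, hz1, hz2⟩ := exists_closed x
    have := le_of_specializes hX.2.2 hz1
    rw [h0 z hz2] at this
    exact this
  have hcl : IsClosed (closure ({ξ} : Set X)) := isClosed_closure
  have hemb : Topology.IsClosedEmbedding (Subtype.val : ↥(closure ({ξ} : Set X)) → X) :=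
    hcl.isClosedEmbedding_subtypeVal
  have : QuasiSober ↥(closure ({ξ} : Set X)) := hemb.quasiSober
  refine ⟨⟨?_, hnn ξ⟩, ?_⟩
  · obtain ⟨z₀, hz1, hz2⟩ := exists_closed ξ
    have := topologicalKrullDim_eq (T := ↥(closure ({ξ} : Set X))) (fun x => δ x.1) ?_ ?_
      (fun x => hnn _) ⟨ξ, subset_closure rfl⟩ ?_ ⟨z₀, specializes_iff_mem_closure.1 hz1⟩ (h0 z₀ hz2)
    · exact this
    · intro x y hxy hne
      exact lt_of_specializes hX.2.2 (hemb.isInducing.specializes_iff.2 hxy)
        (fun e => hne (Subtype.ext e))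
    · intro x y hxy hne
      obtain ⟨z, h1, h2, h3⟩ := exists_immediate hX.2.2 (hemb.isInducing.specializes_iff.2 hxy)
        (fun e => hne (Subtype.ext e))
      exact ⟨⟨z, h1.mem_closed hcl x.2⟩, hemb.isInducing.specializes_iff.1 h1,
        hemb.isInducing.specializes_iff.1 h2, h3⟩
    · intro x
      exact hemb.isInducing.specializes_iff.1 (specializes_iff_mem_closure.2 x.2)
  · intro z h hz
    rw [ringKrullDim_locQuot hX.2.2 h, h0 z hz, sub_zero]

end K305.TopDim
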