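import Groth.Agent.Sga2.PnHomAdj
import Groth.Agent.Sga2.PnHomExact

/-!
# The mate of `N' ⊗ - ⟶ N ⊗ -` is precomposition on the internal Hom
-/

set_option autoImplicit false
universe u

open CategoryTheory CategoryTheory.Limits AlgebraicGeometry Opposite TopologicalSpace

namespace K305.DualMate

open Groth.Agent.Ega2.Tens Groth.Agent.CohqB.HomSheaf Groth.Agent.Sga2.PnHomAdj

variable {X : Scheme.{u}} {M M' P : X.Modules}

theorem conj_homAdj (a : M' ⟶ M) (P : X.Modules) :
    (conjugateEquiv (homAdj M) (homAdj M') ((DCoh.tensorBi (X := X)).map a)).app P =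
      homMapLeft a P := by
  have h1 : (conjugateEquiv (homAdj M) (homAdj M') ((DCoh.tensorBi (X := X)).map a)).app P =
      curry (((DCoh.tensorBi (X := X)).map a).app ((homF M).obj P) ≫
        (homAdj M).counit.app P) := by
    rw [conjugateEquiv_apply_app]
    have h2 := (homAdj M').homEquiv_unit (X := (homF M).obj P) (Y := P)
      (f := ((DCoh.tensorBi (X := X)).map a).app ((homF M).obj P) ≫ (homAdj M).counit.app P)
    rw [Functor.map_comp] at h2
    exact h2.symm
  rw [h1]
  refine homSheaf_hom_ext _ _ fun U s m => ?_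
  rw [comp_curry_self]
  have h3 : (homAdj M).counit.app P = uncurry (𝟙 ((homF M).obj P)) := by
    have h4 := (homAdj M).homEquiv_counit (X := (homF M).obj P) (Y := P)
      (g := 𝟙 ((homF M).obj P))
    rw [CategoryTheory.Functor.map_id, Category.id_comp] at h4
    have h6 : (homAdj M).homEquiv ((homF M).obj P) P = curryEquiv M ((homF M).obj P) P :=
      congrFun (congrFun (Adjunction.mkOfHomEquiv_homEquiv _) _) _
    rw [← h4, h6]
    rfl
  have h5 : (((DCoh.tensorBi (X := X)).map a).app ((homF M).obj P) ≫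
      (homAdj M).counit.app P).app U (tmul m s) =
      ((homAdj M).counit.app P).app U ((((DCoh.tensorBi (X := X)).map a).app
        ((homF M).obj P)).app U (tmul m s)) := rfl
  refine h5.trans ?_
  rw [tensorBi_map_app_tmul, h3]
  exact uncurry_tmul _ _ _

theorem mate (a : M' ⟶ M) [DCoh.HasSheafHom M] [DCoh.HasSheafHom M'] (P : X.Modules) :
    (conjugateEquiv (DCoh.sheafHomAdj M) (DCoh.sheafHomAdj M')
      ((DCoh.tensorBi (X := X)).map a)).app P ≫ (sheafHomIso M').hom.app P =
      (sheafHomIso M).hom.app P ≫ homMapLeft a P := by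
  rw [← conj_homAdj a P]
  have h1 := conjugateEquiv_comp (DCoh.sheafHomAdj M) (DCoh.sheafHomAdj M') (homAdj M')
    ((DCoh.tensorBi (X := X)).map a) (𝟙 _)
  have h2 := conjugateEquiv_comp (DCoh.sheafHomAdj M) (homAdj M) (homAdj M')
    (𝟙 _) ((DCoh.tensorBi (X := X)).map a)
  rw [Category.id_comp] at h1
  rw [Category.comp_id] at h2
  exact congr(($(h1.trans h2.symm)).app P)

end K305.DualMate
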