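import Groth.Agent.CycB.GysinCap
import Groth.Agent.CycB.C1Fin

/-!
# Gysin maps and capping with first Chern classes; self-intersection formula
-/

set_option autoImplicit false

universe u

open CategoryTheory CategoryTheory.Limits AlgebraicGeometry TopologicalSpace Opposite
open Groth.Agent.CycB Groth.Agent.CycB.ModStalk Cyc

namespace K305.GysinC1

open Groth.Agent.CycB.GysinCl Groth.Agent.CycB.CapComm Groth.Agent.CycB.GysinCap
open Groth.Agent.CycB.DivFun Groth.Agent.CycB.C1Basic Groth.Agent.CycB.C1Pull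
open Groth.Agent.CycB.C1Cap

variable {X D : Scheme.{u}} {δ : X → ℤ}

theorem gysin_c1Cap (hX : IsSetup X δ) (L N : X.Modules) (hL : PicF.IsInvertible L)
    (hN : PicF.IsInvertible N) (s : L.presheaf.obj (op ⊤)) (i : D ⟶ X) [IsClosedImmersion i]
    (hD : IsZeroSchemeOf i L s) (k : ℤ) (α : AlgebraicCycle X ℤ) (hα : α ∈ Zk X δ k)
    (w : (ξ : X) → secFibre L ξ) (hw : ∀ ξ, w ξ ≠ 0) (v : (ξ : X) → secFibre N ξ)
    (hv : ∀ ξ, v ξ ≠ 0) (t : (d : D) → secFibre ((Scheme.Modules.pullback i).obj N) d)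
    (ht : ∀ d, t d ≠ 0) (β : AlgebraicCycle X ℤ) (hβ : ⇑β = c1CapFun δ N ⇑α v) (γ : D → ℤ)
    (hγ : γ = fun d => c1CapFun δ L ⇑α (gysinChoice L s w) (i d)) (ζ₁ ζ₂ : AlgebraicCycle D ℤ)
    (h₁ : ∀ d, ζ₁ d = c1CapFun δ L ⇑β (gysinChoice L s w) (i d))
    (h₂ : ⇑ζ₂ = c1CapFun (fun d => δ (i d)) ((Scheme.Modules.pullback i).obj N) γ t) :
    RatEquiv (fun d => δ (i d)) (k - 2) ζ₁ ζ₂ := by
  have := hX.1
  have hδ := hX.2.2
  obtain ⟨Γ, hΓ⟩ := exists_cycle_c1CapFun hδ hL α (gysinChoice_ne_zero s hw)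
  have hΓk : ∀ x, δ x ≠ k - 1 → Γ x = 0 := by
    intro x hx
    rw [hΓ]
    exact c1CapFun_eq_zero_of_ne (k := k - 1) ⇑α (fun y hy => hα y (by omega)) _ hx
  let g := RatTransport.comapCycle i i.isEmbedding.injective Γ
  have hg : ∀ d, g d = c1CapFun δ L ⇑α (gysinChoice L s w) (i d) := by
    intro d
    rw [RatTransport.comapCycle_apply, hΓ]
  have hg' : γ = ⇑g := by
    rw [hγ]
    exact funext fun d => (hg d).symm
  have hA := ratZ_cap_sub_cap (δ := δ) (k := k - 2) i (𝟙 D) hN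
    (c1CapFun δ L ⇑α (gysinChoice L s w)) (fun x hx => by
      refine c1CapFun_eq_zero_of_forall _ _ fun ξ _ _ => ?_
      rw [mem_range_iff hD] at hx
      exact secDivFun_gysinChoice_eq_zero hL δ s w hx) g hg (fun d hd => by
      by_contra hcon
      exact hd (hΓk (i d) (by omega))) v hv t ht (fun d hd => absurd ⟨d, rfl⟩ hd)
  obtain ⟨ι, ξ, ζ, h, f, h1, h2, h3, h4, h5, h6, h7⟩ :=
    exists_family hδ hL hN α (gysinChoice_ne_zero s hw) (gysinChoice_ne_zero s hw) hv hv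
  have hC := ratZ_restrict (δ := δ) (k := k - 2) i (ξ := ζ) (f := f) (fun p => by
    have h8 : δ (ξ p) = k := by
      by_contra hcon
      exact h1 p (hα (ξ p) hcon)
    have := h2 p
    omega) h3 h4 (by
    intro p hp z
    have h8 : f p = 1 := by
      rw [mem_range_iff hD] at hp
      exact h6 p (sameGerm_gysinChoice hL s w (h p) hp)
    rw [h8, OrdFrac.divFun_one]
    rfl)
  change RatEquivZero _ _ _
  rw [ratEquivZero_iff_ratZ]
  refine (hC.sub hA).congr fun z => ?_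
  have h8 := h7 (i z)
  rw [Function.locallyFinsuppWithin.coe_sub, Pi.sub_apply, h₁, h₂, hg', hβ]
  dsimp only
  rw [← h8]
  change _ = _ - _ - (_ - _)
  simp only [Scheme.Hom.id_base, TopCat.hom_id, ContinuousMap.id_apply]
  ring

theorem gysin_map_self (L : X.Modules) (hL : PicF.IsInvertible L)
    (s : L.presheaf.obj (op ⊤)) (i : D ⟶ X) [IsClosedImmersion i]
    (k : ℤ) (α : AlgebraicCycle D ℤ) (hα : α ∈ Zk D (fun d => δ (i d)) k)
    (w : (ξ : X) → secFibre L ξ) (hw : ∀ ξ, w ξ ≠ 0)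
    (t : (d : D) → secFibre ((Scheme.Modules.pullback i).obj L) d) (ht : ∀ d, t d ≠ 0)
    (ζ₁ ζ₂ : AlgebraicCycle D ℤ)
    (h₁ : ∀ d, ζ₁ d = c1CapFun δ L ⇑(AlgebraicCycle.map i (fun d => δ (i d)) δ α)
      (gysinChoice L s w) (i d))
    (h₂ : ⇑ζ₂ = c1CapFun (fun d => δ (i d)) ((Scheme.Modules.pullback i).obj L) ⇑α t) :
    RatEquiv (fun d => δ (i d)) (k - 1) ζ₁ ζ₂ := by
  have hmap : ∀ d, AlgebraicCycle.map i (fun d => δ (i d)) δ α (i d) = α d := fun d =>
    DivNat.map_apply_of_isPreimmersion i _ _ α d rfl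
  have hmap0 : ∀ x, x ∉ Set.range ⇑i → AlgebraicCycle.map i (fun d => δ (i d)) δ α x = 0 := by
    intro x hx
    exact DivNat.map_apply_notMem_range i _ _ α x hx
  have e : ⇑ζ₁ = c1CapFun (fun d => δ (i d)) ((Scheme.Modules.pullback i).obj L) ⇑α
      (fun ξ => fib i L ξ (gysinChoice L s w (i ξ))) := by
    funext d
    rw [h₁ d, C1Fin.c1CapFun_closedImmersion i hL δ _ hmap0 _
      (fun ξ _ => gysinChoice_ne_zero s hw ξ)]
    congr 1
    exact funext hmap
  exact ratEquiv_of_c1CapFun (isInvertible_pullback i hL) (k - 1) α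
    (by rwa [sub_add_cancel]) _ t
    (fun ξ _ => fib_ne_zero i hL (gysinChoice_ne_zero s hw (i ξ))) (fun ξ _ => ht ξ) ζ₁ ζ₂ e h₂

end K305.GysinC1
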