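import Groth.Agent.Cyc.K305.ValLoc

/-!
# The index at a point of a module with support of dimension one

For a finite module `M` over a Noetherian local ring `A` with support of dimension one and the
localizations `f i : M → V i` at the primes of coheight one, together with integers `g i`, we study
`cpt f g = length (ker (M → ∏ V i)) + [im M : ∏ im (f i)] + ∑ g i`.
-/

set_option autoImplicit false

universe u

namespace K305.IdxPt

open Submodule IsLocalRing Groth.Agent.CycB.KeyIdx Groth.Agent.CycB.KeyLat
  Groth.Agent.CycB.KeyDet K305.ValLoc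

section Inf

variable {A : Type u} [CommRing A] {ι : Type u} {V : ι → Type u} [∀ i, AddCommGroup (V i)]
  [∀ i, Module A (V i)]

/-- Restriction of a family to the nontrivial members. -/
noncomputable def res (A : Type u) [CommRing A] {ι : Type u} (V : ι → Type u)
    [∀ i, AddCommGroup (V i)] [∀ i, Module A (V i)] :
    (∀ i, V i) →ₗ[A] (∀ i : {i : ι // Nontrivial (V i)}, V i.1) :=
  LinearMap.pi fun i => LinearMap.proj i.1

theorem res_injective : Function.Injective (res A V) := by
  intro v w h
  funext i
  by_cases hi : Nontrivial (V i)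
  · exact congrFun h ⟨i, hi⟩
  · rw [not_nontrivial_iff_subsingleton] at hi
    exact Subsingleton.elim _ _

theorem map_res_pi (L : ∀ i, Submodule A (V i)) :
    (Submodule.pi Set.univ L).map (res A V) =
      Submodule.pi Set.univ (fun i : {i : ι // Nontrivial (V i)} => L i.1) := by
  classical
  ext w
  constructor
  · rintro ⟨v, hv, rfl⟩ i _
    exact hv i.1 trivial
  · intro hw
    refine ⟨fun i => if h : Nontrivial (V i) then w ⟨i, h⟩ else 0, ?_, ?_⟩
    · intro i _
      by_cases h : Nontrivial (V i)
      · change (if h : Nontrivial (V i) then w ⟨i, h⟩ else 0) ∈ L i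
        rw [dif_pos h]
        exact hw ⟨i, h⟩ trivial
      · change (if h : Nontrivial (V i) then w ⟨i, h⟩ else 0) ∈ L i
        rw [dif_neg h]
        exact zero_mem _
    · funext i
      change (if h : Nontrivial (V i.1) then w ⟨i.1, h⟩ else 0) = w i
      rw [dif_pos i.2]

theorem sum_idx_eq_finsum (hT : {i : ι | Nontrivial (V i)}.Finite) (L L' : ∀ i, Submodule A (V i))
    (F : Fintype {i : ι // Nontrivial (V i)}) :
    ∑ i : {i : ι // Nontrivial (V i)}, idx (L i.1) (L' i.1) = ∑ᶠ i, idx (L i) (L' i) := by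
  classical
  rw [finsum_eq_sum_of_support_subset (s := hT.toFinset)]
  · have hm : ∀ i, i ∈ hT.toFinset ↔ Nontrivial (V i) := fun i => by
      rw [Set.Finite.mem_toFinset, Set.mem_ofPred_eq]
    exact (Finset.sum_subtype hT.toFinset hm (fun i => idx (L i) (L' i))).symm
  · intro i hi
    rw [Set.Finite.coe_toFinset]
    by_contra hc
    have hc' : Subsingleton (V i) := by
      rwa [Set.mem_ofPred_eq, not_nontrivial_iff_subsingleton] at hc
    apply hi
    change idx (L i) (L' i) = 0
    rw [Subsingleton.elim (L i) (L' i), idx_self]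

theorem idx_pi_finsum (hT : {i : ι | Nontrivial (V i)}.Finite) (L L' : ∀ i, Submodule A (V i))
    (h : ∀ i, Comm (L i) (L' i)) :
    idx (Submodule.pi Set.univ L) (Submodule.pi Set.univ L') = ∑ᶠ i, idx (L i) (L' i) := by
  classical
  have F : Fintype {i : ι // Nontrivial (V i)} := hT.fintype
  rw [← sum_idx_eq_finsum hT L L' F]
  have e1 := idx_map_injective (res A V) res_injective (Submodule.pi Set.univ L)
    (Submodule.pi Set.univ L')
  rw [map_res_pi, map_res_pi] at e1
  exact e1.symm.trans (idx_pi _ _ (fun i => h i.1))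

theorem isLat_pi_inf [IsNoetherianRing A] [IsLocalRing A] (hT : {i : ι | Nontrivial (V i)}.Finite)
    {L : ∀ i, Submodule A (V i)} (h : ∀ i, IsLat ⊤ (L i)) : IsLat ⊤ (Submodule.pi Set.univ L) where
  le := le_top
  fg := by
    have : Finite {i : ι // Nontrivial (V i)} := hT
    refine Submodule.fg_of_fg_map_injective _ (res_injective (A := A) (V := V)) ?_
    rw [map_res_pi]
    exact Submodule.fg_pi fun i => (h i.1).fg
  abs := by
    classical
    intro v _
    choose k hk using fun i => (h i).abs (v i) trivial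
    refine ⟨hT.toFinset.sup k, fun r hr i _ => ?_⟩
    by_cases hi : Nontrivial (V i)
    · exact hk i r (Ideal.pow_le_pow_right (Finset.le_sup (f := k) (by simpa using hi)) hr)
    · rw [not_nontrivial_iff_subsingleton] at hi
      have : (r • v) i = 0 := Subsingleton.elim _ _
      rw [this]
      exact zero_mem _

end Inf

section Crit

variable {A : Type u} [CommRing A] [IsNoetherianRing A] [IsLocalRing A] {ι : Type u}
  {V : ι → Type u} [∀ i, AddCommGroup (V i)] [∀ i, Module A (V i)]
  {M : Type u} [AddCommGroup M] [Module A M] (f : ∀ i, M →ₗ[A] V i)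

/-- The hypotheses on the family of localizations. -/
structure Good (f : ∀ i, M →ₗ[A] V i) : Prop where
  fin : {i : ι | Nontrivial (V i)}.Finite
  ker : Module.length A (LinearMap.ker (LinearMap.pi f)) ≠ ⊤
  lat : IsLat ⊤ (LinearMap.range (LinearMap.pi f))
  lati : ∀ i, IsLat ⊤ (LinearMap.range (f i))

theorem isLat_range [Module.Finite A M] {V : Type u} [AddCommGroup V] [Module A V]
    (f : M →ₗ[A] V) {q : Ideal A} (hq : DimOne q)
    (h1 : ∃ n : ℕ, ∀ a ∈ q ^ n, ∀ v : V, a • v = 0)
    (h2 : ∀ v : V, ∃ s ∉ q, ∃ m : M, s • v = f m) : IsLat ⊤ (LinearMap.range f) where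
  le := le_top
  fg := by
    rw [LinearMap.range_eq_map]
    exact Module.Finite.fg_top.map f
  abs := by
    intro v _
    obtain ⟨n, hn⟩ := h1
    obtain ⟨s, hs, m, hm⟩ := h2 v
    exact abs_of_dimOne hq _ v n (fun r hr => by rw [hn r hr]; exact zero_mem _) hs
      ⟨m, hm.symm⟩

omit [IsNoetherianRing A] [IsLocalRing A] in
theorem exists_kill (q : ι → Ideal A) [∀ i, (q i).IsPrime] (hne : ∀ i j, q i ≤ q j → i = j)
    (h1 : ∀ i, ∃ n : ℕ, ∀ a ∈ q i ^ n, ∀ v : V i, a • v = 0) (T : Finset ι) (i : ι) (hi : i ∉ T) :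
    ∃ a : A, a ∉ q i ∧ ∀ j ∈ T, ∀ v : V j, a • v = 0 := by
  classical
  induction T using Finset.induction_on with
  | empty => exact ⟨1, (Ideal.ne_top_iff_one _).mp (Ideal.IsPrime.ne_top inferInstance),
      fun j hj => absurd hj (Finset.notMem_empty j)⟩
  | insert j T hj ih =>
    obtain ⟨a, ha, haT⟩ := ih (fun h => hi (Finset.mem_insert_of_mem h))
    have hji : ¬ q j ≤ q i := fun h => hi (by rw [← hne j i h]; exact Finset.mem_insert_self _ _)
    obtain ⟨b, hb, hbi⟩ := SetLike.not_le_iff_exists.mp hji
    obtain ⟨n, hn⟩ := h1 j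
    refine ⟨a * b ^ n, ?_, ?_⟩
    · intro h
      rcases (inferInstance : (q i).IsPrime).mem_or_mem h with h | h
      · exact ha h
      · exact hbi ((inferInstance : (q i).IsPrime).mem_of_pow_mem n h)
    · intro l hl v
      rcases Finset.mem_insert.mp hl with rfl | hl
      · rw [mul_smul, hn _ (Ideal.pow_mem_pow hb n), smul_zero]
      · rw [mul_comm, mul_smul, haT l hl, smul_zero]

theorem isLat_range_pi [Module.Finite A M] (q : ι → Ideal A) [∀ i, (q i).IsPrime]
    (hq : ∀ i, DimOne (q i)) (hne : ∀ i j, q i ≤ q j → i = j)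
    (hT : {i : ι | Nontrivial (V i)}.Finite)
    (h1 : ∀ i, ∃ n : ℕ, ∀ a ∈ q i ^ n, ∀ v : V i, a • v = 0)
    (h2 : ∀ i, ∀ v : V i, ∃ s ∉ q i, ∃ m : M, s • v = f i m) :
    IsLat ⊤ (LinearMap.range (LinearMap.pi f)) where
  le := le_top
  fg := by
    rw [LinearMap.range_eq_map]
    exact Module.Finite.fg_top.map _
  abs := by
    classical
    intro v _
    have hsingle : ∀ i (w : V i), ∃ k : ℕ, ∀ r ∈ maximalIdeal A ^ k,
        r • (Pi.single i w : ∀ i, V i) ∈ LinearMap.range (LinearMap.pi f) := by
      intro i w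
      obtain ⟨n, hn⟩ := h1 i
      obtain ⟨s, hs, m, hm⟩ := h2 i w
      obtain ⟨a, ha, haT⟩ := exists_kill q hne h1 (hT.toFinset.erase i) i
        (Finset.notMem_erase i _)
      refine abs_of_dimOne (hq i) _ _ n ?_ (s := a * s) ?_ ?_
      · intro r hr
        have : r • (Pi.single i w : ∀ i, V i) = 0 := by
          rw [← Pi.single_smul, hn r hr, Pi.single_zero]
        rw [this]
        exact zero_mem _
      · intro h
        rcases (inferInstance : (q i).IsPrime).mem_or_mem h with h | h
        · exact ha h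
        · exact hs h
      · refine ⟨a • m, ?_⟩
        funext j
        rw [LinearMap.pi_apply, map_smul, Pi.smul_apply]
        by_cases hj : j = i
        · subst hj
          rw [Pi.single_eq_same, mul_smul, hm]
        · rw [Pi.single_eq_of_ne hj, smul_zero]
          by_cases hjT : Nontrivial (V j)
          · exact haT j (Finset.mem_erase.mpr ⟨hj, by simpa using hjT⟩) _
          · rw [not_nontrivial_iff_subsingleton] at hjT
            exact Subsingleton.elim _ _
    have hsum : ∀ T : Finset ι, ∃ k : ℕ, ∀ r ∈ maximalIdeal A ^ k,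
        r • (∑ i ∈ T, (Pi.single i (v i) : ∀ i, V i)) ∈ LinearMap.range (LinearMap.pi f) := by
      intro T
      induction T using Finset.induction_on with
      | empty => exact ⟨0, fun r _ => by rw [Finset.sum_empty, smul_zero]; exact zero_mem _⟩
      | insert j T hj ih =>
        obtain ⟨k, hk⟩ := ih
        obtain ⟨l, hl⟩ := hsingle j (v j)
        refine ⟨k ⊔ l, fun r hr => ?_⟩
        rw [Finset.sum_insert hj, smul_add]
        exact add_mem (hl r (Ideal.pow_le_pow_right le_sup_right hr))
          (hk r (Ideal.pow_le_pow_right le_sup_left hr))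
    obtain ⟨k, hk⟩ := hsum hT.toFinset
    refine ⟨k, fun r hr => ?_⟩
    have hv : v = ∑ i ∈ hT.toFinset, (Pi.single i (v i) : ∀ i, V i) := by
      funext j
      rw [Finset.sum_apply]
      by_cases hjT : Nontrivial (V j)
      · rw [Finset.sum_eq_single j]
        · rw [Pi.single_eq_same]
        · intro i _ hij
          rw [Pi.single_eq_of_ne hij.symm]
        · intro h
          exact absurd (by simpa using hjT) h
      · rw [not_nontrivial_iff_subsingleton] at hjT
        exact Subsingleton.elim _ _
    rw [hv]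
    exact hk r hr

/-- A module all of whose elements are killed outside of the closed point has finite length. -/
theorem length_ne_top_of_primes {N : Type u} [AddCommGroup N] [Module A N] [Module.Finite A N]
    (h : ∀ m : N, ∀ p : Ideal A, p.IsPrime → p ≠ maximalIdeal A → ∃ a ∉ p, a • m = 0) :
    Module.length A N ≠ ⊤ := by
  refine length_ne_top_of_fg_of_torsion ?_
  intro m
  obtain ⟨k, hk⟩ := Ideal.exists_pow_le_of_le_radical_of_fg (I := maximalIdeal A)
    (J := LinearMap.ker (LinearMap.toSpanSingleton A N m)) (by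
      rw [Ideal.radical_eq_sInf]
      refine le_sInf ?_
      rintro p ⟨hp1, hp2⟩
      by_cases hpm : p = maximalIdeal A
      · rw [hpm]
      · obtain ⟨a, ha, ham⟩ := h m p hp2 hpm
        exact absurd (hp1 (show a ∈ LinearMap.ker (LinearMap.toSpanSingleton A N m) from ham)) ha)
    (IsNoetherian.noetherian _)
  exact ⟨k, fun r hr => hk hr⟩

end Crit

section Exact

theorem relLen_bot {A : Type u} [CommRing A] {M : Type u} [AddCommGroup M] [Module A M]
    (L : Submodule A M) : relLen ⊥ L = Module.length A L :=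
  relLen_eq_of_surjective _ _ LinearMap.id Function.surjective_id (fun x => by simp)

variable {A : Type u} [CommRing A] [IsNoetherianRing A] [IsLocalRing A] {ι : Type u}
  {V : ι → Type u} [∀ i, AddCommGroup (V i)] [∀ i, Module A (V i)]
  {M : Type u} [AddCommGroup M] [Module A M]

/-- The index at the closed point. -/
noncomputable def cpt (f : ∀ i, M →ₗ[A] V i) (g : ι → ℤ) : ℤ :=
  ((Module.length A (LinearMap.ker (LinearMap.pi f))).toNat : ℤ) +
    idx (LinearMap.range (LinearMap.pi f))
      (Submodule.pi Set.univ (fun i => LinearMap.range (f i))) + ∑ᶠ i, g i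

variable {V' : ι → Type u} [∀ i, AddCommGroup (V' i)] [∀ i, Module A (V' i)]
  {M' : Type u} [AddCommGroup M'] [Module A M']
  {V'' : ι → Type u} [∀ i, AddCommGroup (V'' i)] [∀ i, Module A (V'' i)]
  {M'' : Type u} [AddCommGroup M''] [Module A M'']

omit [IsNoetherianRing A] [IsLocalRing A] in
/-- The length part of the additivity. -/
theorem length_part {U' U U'' : Type u} [AddCommGroup U'] [Module A U'] [AddCommGroup U]
    [Module A U] [AddCommGroup U''] [Module A U'']
    (F' : M' →ₗ[A] U') (F : M →ₗ[A] U) (F'' : M'' →ₗ[A] U'')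
    (a : M' →ₗ[A] M) (b : M →ₗ[A] M'') (J : U' →ₗ[A] U) (P : U →ₗ[A] U'')
    (ha : Function.Injective a) (hb : Function.Surjective b)
    (hab : LinearMap.range a = LinearMap.ker b)
    (hJ : Function.Injective J) (hJP : LinearMap.range J = LinearMap.ker P)
    (c1 : ∀ m, J (F' m) = F (a m)) (c2 : ∀ m, P (F m) = F'' (b m)) :
    Module.length A (LinearMap.ker F) +
        relLen (LinearMap.range F') ((LinearMap.range F).comap J) =
      Module.length A (LinearMap.ker F') + Module.length A (LinearMap.ker F'') := by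
  have e1 := relLen_map b (bot_le : (⊥ : Submodule A M) ≤ LinearMap.ker F)
  have hk : LinearMap.ker F ⊓ LinearMap.ker b = (LinearMap.ker F').map a := by
    ext m
    constructor
    · rintro ⟨h1, h2⟩
      rw [SetLike.mem_coe, ← hab] at h2
      obtain ⟨m', rfl⟩ := h2
      refine ⟨m', ?_, rfl⟩
      apply hJ
      rw [c1, map_zero]
      exact h1
    · rintro ⟨m', hm', rfl⟩
      refine ⟨?_, ?_⟩
      · rw [SetLike.mem_coe, LinearMap.mem_ker] at hm' ⊢
        rw [← c1, hm', map_zero]
      · rw [SetLike.mem_coe, ← hab]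
        exact ⟨m', rfl⟩
  rw [bot_inf_eq, hk, Submodule.map_bot] at e1
  have e2 : relLen ⊥ ((LinearMap.ker F').map a) = relLen ⊥ (LinearMap.ker F') := by
    rw [← relLen_map_injective a ha, Submodule.map_bot]
  have hle : (LinearMap.ker F).map b ≤ LinearMap.ker F'' := by
    rintro _ ⟨m, hm, rfl⟩
    rw [SetLike.mem_coe, LinearMap.mem_ker] at hm
    rw [LinearMap.mem_ker, ← c2, hm, map_zero]
  have e3 := relLen_add (bot_le : (⊥ : Submodule A M'') ≤ (LinearMap.ker F).map b) hle
  -- the cokernel
  let N : Submodule A M := LinearMap.ker (F'' ∘ₗ b)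
  have hKN : LinearMap.ker F ⊔ LinearMap.range a ≤ N := by
    refine sup_le ?_ ?_
    · intro m hm
      rw [LinearMap.mem_ker] at hm
      change F'' (b m) = 0
      rw [← c2, hm, map_zero]
    · rw [hab]
      intro m hm
      rw [LinearMap.mem_ker] at hm
      change F'' (b m) = 0
      rw [hm, map_zero]
  have e4 := relLen_map b hKN
  have e5 := relLen_map F hKN
  have n1 : (LinearMap.ker F ⊔ LinearMap.range a) ⊓ LinearMap.ker b = LinearMap.ker b := by
    rw [hab]; exact inf_eq_right.mpr le_sup_right
  have n2 : N ⊓ LinearMap.ker b = LinearMap.ker b := by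
    refine inf_eq_right.mpr ?_
    rw [← hab]
    exact le_sup_right.trans hKN
  have n3 : (LinearMap.ker F ⊔ LinearMap.range a).map b = (LinearMap.ker F).map b := by
    rw [Submodule.map_sup, hab]
    have : (LinearMap.ker b).map b = ⊥ := by
      rw [eq_bot_iff]
      rintro _ ⟨m, hm, rfl⟩
      exact hm
    rw [this, sup_bot_eq]
  have n4 : N.map b = LinearMap.ker F'' := by
    ext m
    constructor
    · rintro ⟨n, hn, rfl⟩
      exact hn
    · intro hm
      obtain ⟨n, rfl⟩ := hb m
      exact ⟨n, hm, rfl⟩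
  have n5 : (LinearMap.ker F ⊔ LinearMap.range a) ⊓ LinearMap.ker F = LinearMap.ker F :=
    inf_eq_right.mpr le_sup_left
  have n6 : N ⊓ LinearMap.ker F = LinearMap.ker F :=
    inf_eq_right.mpr (le_sup_left.trans hKN)
  have n7 : (LinearMap.ker F ⊔ LinearMap.range a).map F = (LinearMap.range F').map J := by
    rw [Submodule.map_sup]
    have h0 : (LinearMap.ker F).map F = ⊥ := by
      rw [eq_bot_iff]
      rintro _ ⟨m, hm, rfl⟩
      exact hm
    rw [h0, bot_sup_eq]
    ext v
    constructor
    · rintro ⟨_, ⟨m', rfl⟩, rfl⟩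
      exact ⟨F' m', ⟨m', rfl⟩, c1 m'⟩
    · rintro ⟨_, ⟨m', rfl⟩, rfl⟩
      exact ⟨a m', ⟨m', rfl⟩, (c1 m').symm⟩
  have n8 : N.map F = ((LinearMap.range F).comap J).map J := by
    ext v
    constructor
    · rintro ⟨m, hm, rfl⟩
      have : F m ∈ LinearMap.ker P := by
        rw [LinearMap.mem_ker, c2]
        exact hm
      rw [← hJP] at this
      obtain ⟨v', hv'⟩ := this
      refine ⟨v', ?_, hv'⟩
      rw [SetLike.mem_coe, Submodule.mem_comap, hv']
      exact ⟨m, rfl⟩
    · rintro ⟨v', ⟨m, hm⟩, rfl⟩
      refine ⟨m, ?_, hm⟩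
      change F'' (b m) = 0
      rw [← c2, hm]
      have : J v' ∈ LinearMap.ker P := by rw [← hJP]; exact ⟨v', rfl⟩
      exact this
  rw [n1, n2, relLen_self, zero_add, n3, n4] at e4
  rw [n5, n6, relLen_self, zero_add, n7, n8, relLen_map_injective J hJ] at e5
  rw [← e5, e4, ← relLen_bot, e1, e2, ← relLen_bot, ← relLen_bot, e3]
  ring

theorem cpt_exact (f' : ∀ i, M' →ₗ[A] V' i) (f : ∀ i, M →ₗ[A] V i) (f'' : ∀ i, M'' →ₗ[A] V'' i)
    (a : M' →ₗ[A] M) (b : M →ₗ[A] M'') (j : ∀ i, V' i →ₗ[A] V i) (p : ∀ i, V i →ₗ[A] V'' i)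
    (ha : Function.Injective a) (hb : Function.Surjective b)
    (hab : LinearMap.range a = LinearMap.ker b)
    (hj : ∀ i, Function.Injective (j i)) (hp : ∀ i, Function.Surjective (p i))
    (hjp : ∀ i, LinearMap.range (j i) = LinearMap.ker (p i))
    (c1 : ∀ i m, j i (f' i m) = f i (a m)) (c2 : ∀ i m, p i (f i m) = f'' i (b m))
    (G' : Good f') (G : Good f) (G'' : Good f'')
    (g' g'' : ι → ℤ) (hg' : ∀ i, Subsingleton (V i) → g' i = 0)
    (hg'' : ∀ i, Subsingleton (V i) → g'' i = 0) :
    cpt f (fun i => (g' i + idx ((LinearMap.range (f i)).comap (j i)) (LinearMap.range (f' i)))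
      + g'' i) = cpt f' g' + cpt f'' g'' := by
  let J : (∀ i, V' i) →ₗ[A] (∀ i, V i) := LinearMap.pi fun i => (j i) ∘ₗ LinearMap.proj i
  let P : (∀ i, V i) →ₗ[A] (∀ i, V'' i) := LinearMap.pi fun i => (p i) ∘ₗ LinearMap.proj i
  have hJ : Function.Injective J := by
    intro v w h
    funext i
    exact hj i (congrFun h i)
  have hP : Function.Surjective P := by
    intro v
    choose w hw using fun i => hp i (v i)
    exact ⟨w, funext hw⟩
  have hJP : LinearMap.range J = LinearMap.ker P := by
    ext v
    constructor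
    · rintro ⟨w, rfl⟩
      rw [LinearMap.mem_ker]
      funext i
      have : j i (w i) ∈ LinearMap.ker (p i) := by rw [← hjp]; exact ⟨_, rfl⟩
      exact this
    · intro hv
      rw [LinearMap.mem_ker] at hv
      have h1 : ∀ i, v i ∈ LinearMap.range (j i) := by
        intro i
        rw [hjp]
        exact congrFun hv i
      choose w hw using h1
      exact ⟨w, funext hw⟩
  have hlen := length_part (LinearMap.pi f') (LinearMap.pi f) (LinearMap.pi f'') a b J P ha hb hab
    hJ hJP (fun m => funext fun i => c1 i m) (fun m => funext fun i => c2 i m)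
  -- lattices
  have lD : IsLat ⊤ (Submodule.pi Set.univ (fun i => LinearMap.range (f i))) :=
    isLat_pi_inf G.fin G.lati
  have lD' : IsLat ⊤ (Submodule.pi Set.univ (fun i => LinearMap.range (f' i))) :=
    isLat_pi_inf G'.fin G'.lati
  have e1 := idx_exact J hJ P hJP (G.lat.comm lD)
  have m1 : (LinearMap.range (LinearMap.pi f)).map P = LinearMap.range (LinearMap.pi f'') := by
    ext v
    constructor
    · rintro ⟨_, ⟨m, rfl⟩, rfl⟩
      exact ⟨b m, funext fun i => (c2 i m).symm⟩
    · rintro ⟨m, rfl⟩
      obtain ⟨n, rfl⟩ := hb m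
      exact ⟨_, ⟨n, rfl⟩, funext fun i => c2 i n⟩
  have m2 : (Submodule.pi Set.univ (fun i => LinearMap.range (f i))).map P =
      Submodule.pi Set.univ (fun i => LinearMap.range (f'' i)) := by
    ext v
    constructor
    · rintro ⟨w, hw, rfl⟩ i _
      obtain ⟨m, hm⟩ := hw i trivial
      refine ⟨b m, ?_⟩
      rw [← c2, hm]
      rfl
    · intro hv
      have h1 : ∀ i, ∃ m, f'' i (b m) = v i := by
        intro i
        obtain ⟨m, hm⟩ := hv i trivial
        obtain ⟨n, rfl⟩ := hb m
        exact ⟨n, hm⟩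
      choose m hm using h1
      refine ⟨fun i => f i (m i), fun i _ => ⟨m i, rfl⟩, ?_⟩
      funext i
      change p i (f i (m i)) = v i
      rw [c2, hm]
  have m3 : (Submodule.pi Set.univ (fun i => LinearMap.range (f i))).comap J =
      Submodule.pi Set.univ (fun i => (LinearMap.range (f i)).comap (j i)) := by
    ext v
    rfl
  have lE : IsLat ⊤ (Submodule.pi Set.univ (fun i => (LinearMap.range (f i)).comap (j i))) :=
    isLat_pi_inf G'.fin fun i => isLat_comap _ (hj i) (G.lati i)
  have lR : IsLat ⊤ ((LinearMap.range (LinearMap.pi f)).comap J) := isLat_comap J hJ G.lat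
  rw [m1, m2, m3] at e1
  have e2 := idx_add (lR.comm G'.lat) (G'.lat.comm lD')
  have e3 := idx_add (lR.comm lD') (lD'.comm lE)
  have e4 := idx_pi_finsum G'.fin (fun i => LinearMap.range (f' i))
    (fun i => (LinearMap.range (f i)).comap (j i))
    (fun i => (G'.lati i).comm (isLat_comap _ (hj i) (G.lati i)))
  have hle : LinearMap.range (LinearMap.pi f') ≤ (LinearMap.range (LinearMap.pi f)).comap J := by
    rintro _ ⟨m, rfl⟩
    exact ⟨a m, funext fun i => (c1 i m).symm⟩
  have e5 := idx_of_le hle
  -- finite sums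
  have hsub : ∀ i, Subsingleton (V i) → Subsingleton (V' i) := fun i hi => (hj i).subsingleton
  have s1 : (Function.support g').Finite := by
    refine G.fin.subset fun i hi => ?_
    by_contra hc
    rw [Set.mem_ofPred_eq, not_nontrivial_iff_subsingleton] at hc
    exact hi (hg' i hc)
  have s2 : (Function.support g'').Finite := by
    refine G.fin.subset fun i hi => ?_
    by_contra hc
    rw [Set.mem_ofPred_eq, not_nontrivial_iff_subsingleton] at hc
    exact hi (hg'' i hc)
  have s3 : (Function.support fun i => idx ((LinearMap.range (f i)).comap (j i))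
      (LinearMap.range (f' i))).Finite := by
    refine G.fin.subset fun i hi => ?_
    by_contra hc
    rw [Set.mem_ofPred_eq, not_nontrivial_iff_subsingleton] at hc
    have := hsub i hc
    apply hi
    change idx _ _ = 0
    rw [Subsingleton.elim ((LinearMap.range (f i)).comap (j i)) (LinearMap.range (f' i)), idx_self]
  have e6 : (∑ᶠ i, ((g' i + idx ((LinearMap.range (f i)).comap (j i)) (LinearMap.range (f' i)))
      + g'' i)) = ((∑ᶠ i, g' i) + ∑ᶠ i, idx ((LinearMap.range (f i)).comap (j i))
        (LinearMap.range (f' i))) + ∑ᶠ i, g'' i := by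
    rw [finsum_add_distrib ?_ s2, finsum_add_distrib s1 s3]
    exact (s1.union s3).subset (Function.support_add _ _)
  have e7 : (∑ᶠ i, idx (LinearMap.range (f' i)) ((LinearMap.range (f i)).comap (j i))) =
      - ∑ᶠ i, idx ((LinearMap.range (f i)).comap (j i)) (LinearMap.range (f' i)) := by
    rw [← finsum_neg_distrib]
    exact finsum_congr fun i => idx_symm _ _
  -- lengths
  have hrel : relLen (LinearMap.range (LinearMap.pi f'))
      ((LinearMap.range (LinearMap.pi f)).comap J) ≠ ⊤ := (G'.lat.comm lR).1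
  have hlen' := congrArg ENat.toNat hlen
  rw [ENat.toNat_add G.ker hrel, ENat.toNat_add G'.ker G''.ker] at hlen'
  have hlen'' : ((Module.length A (LinearMap.ker (LinearMap.pi f))).toNat : ℤ) +
      ((relLen (LinearMap.range (LinearMap.pi f'))
        ((LinearMap.range (LinearMap.pi f)).comap J)).toNat : ℤ) =
      ((Module.length A (LinearMap.ker (LinearMap.pi f'))).toNat : ℤ) +
      ((Module.length A (LinearMap.ker (LinearMap.pi f''))).toNat : ℤ) := by
    exact_mod_cast hlen'
  unfold cpt
  rw [e6]
  linarith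

end Exact

end K305.IdxPt
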