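import Groth.Agent.Cyc.K305.IdxPt
import Groth.Agent.CycB.CycleSheaf
import Groth.Agent.CycB.StalkExact
import Groth.Agent.CycB.StalkLoc
import Groth.Agent.CycB.GenPts
import Groth.Agent.CycB.DivFun

/-!
# The local index of a coherent sheaf with support of dimension at most `k + 1`
-/

set_option autoImplicit false

universe u

open CategoryTheory CategoryTheory.Limits AlgebraicGeometry TopologicalSpace

namespace K305.PhiLoc

open Submodule IsLocalRing Groth.Agent.CycB Groth.Agent.CycB.KeyIdx Groth.Agent.CycB.KeyLat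
  Groth.Agent.CycB.KeyDet Groth.Agent.CycB.StalkExact Groth.Agent.CycB.StalkLoc
  K305.ValLoc K305.IdxPt

variable {X : Scheme.{u}} {δ : X → ℤ} {k : ℤ}

/-- Points of codimension one in the closure of `ξ`. -/
abbrev Dn (δ : X → ℤ) (ξ : X) : Type u := {x : X // ξ ⤳ x ∧ δ x + 1 = δ ξ}

/-- Points in whose closure `x` has codimension one. -/
abbrev Up (δ : X → ℤ) (x : X) : Type u := {ξ : X // ξ ⤳ x ∧ δ x + 1 = δ ξ}

noncomputable instance algB (ξ : X) (x : Dn δ ξ) :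
    Algebra (X.presheaf.stalk x.1) (X.presheaf.stalk ξ) :=
  (X.presheaf.stalkSpecializes x.2.1).hom.toAlgebra

noncomputable instance algBK (ξ : X) : Algebra (X.presheaf.stalk ξ) (X.residueField ξ) :=
  (X.residue ξ).hom.toAlgebra

noncomputable instance algK (ξ : X) (x : Dn δ ξ) :
    Algebra (X.presheaf.stalk x.1) (X.residueField ξ) :=
  (Cyc.specMap x.1 ξ x.2.1).toAlgebra

instance towerBK (ξ : X) (x : Dn δ ξ) :
    IsScalarTower (X.presheaf.stalk x.1) (X.presheaf.stalk ξ) (X.residueField ξ) :=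
  IsScalarTower.of_algebraMap_eq fun _ => rfl

noncomputable instance modD (F : X.Modules) (ξ : X) (x : Dn δ ξ) :
    Module (X.presheaf.stalk x.1) (F.presheaf.stalk ξ) := specMod F x.2.1

instance towerD (F : X.Modules) (ξ : X) (x : Dn δ ξ) :
    IsScalarTower (X.presheaf.stalk x.1) (X.presheaf.stalk ξ) (F.presheaf.stalk ξ) := by
  refine ⟨fun r a m => ?_⟩
  rw [Algebra.smul_def, mul_smul]
  rfl

noncomputable instance modU (F : X.Modules) (x : X) (ξ : Up δ x) :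
    Module (X.presheaf.stalk x) (F.presheaf.stalk ξ.1) := specMod F ξ.2.1

/-- The specialization map, at `Dn`. -/
noncomputable def spD (F : X.Modules) (ξ : X) (x : Dn δ ξ) :
    F.presheaf.stalk x.1 →ₗ[X.presheaf.stalk x.1] F.presheaf.stalk ξ := specLin F x.2.1

/-- The specialization map, at `Up`. -/
noncomputable def spU (F : X.Modules) (x : X) (ξ : Up δ x) :
    F.presheaf.stalk x →ₗ[X.presheaf.stalk x] F.presheaf.stalk ξ.1 := specLin F ξ.2.1

/-- The lattices defined by the sheaf. -/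
noncomputable def Pl (F : X.Modules) (ξ : X) (x : Dn δ ξ) :
    Submodule (X.presheaf.stalk x.1) (F.presheaf.stalk ξ) := LinearMap.range (spD F ξ x)

/-- `g` is a system of values for `F`. -/
def IsRep (δ : X → ℤ) (k : ℤ) (F : X.Modules) (g : ∀ ξ : X, Dn δ ξ → ℤ) : Prop :=
  ∀ ξ : X, δ ξ = k + 1 → ∃ n : ℕ, Val (fun x : Dn δ ξ => X.presheaf.stalk x.1)
    (X.presheaf.stalk ξ) (X.residueField ξ) n (F.presheaf.stalk ξ) (Pl F ξ) (g ξ)

open Classical in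
/-- The local index of `F` with respect to a system of values. -/
noncomputable def cF (δ : X → ℤ) (k : ℤ) (F : X.Modules) (g : ∀ ξ : X, Dn δ ξ → ℤ) : X → ℤ :=
  fun x => if δ x = k then
    cpt (A := X.presheaf.stalk x) (ι := Up δ x) (V := fun ξ => F.presheaf.stalk ξ.1)
      (fun ξ => spU F x ξ) (fun ξ => g ξ.1 ⟨x, ξ.2⟩) else 0

theorem dimOne [IsLocallyNoetherian X] (hδ : Cyc.IsDimFun X δ) {x ξ : X} (h : ξ ⤳ x)
    (hd : δ x + 1 = δ ξ) : DimOne (RingHom.ker (Cyc.specMap x ξ h)) := by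
  intro p hp hle
  obtain ⟨z, hz, rfl⟩ := LocQuot.exists_eq_ker p
  have hξz : ξ ⤳ z := (LocQuot.ker_le_iff h hz).mp hle
  rcases LocQuot.eq_or_eq_of_between hδ hξz hz hd with rfl | rfl
  · exact Or.inl rfl
  · exact Or.inr (LocQuot.ker_refl z)

instance towerQ (ξ : X) (x : Dn δ ξ) :
    IsScalarTower (X.presheaf.stalk x.1) (Cyc.LocQuot x.1 ξ x.2.1) (X.residueField ξ) :=
  IsScalarTower.of_algebraMap_eq fun _ => rfl

theorem hone [IsLocallyNoetherian X] (hδ : Cyc.IsDimFun X δ) (ξ : X) (x : Dn δ ξ) :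
    IsLat ⊤ (1 : Submodule (X.presheaf.stalk x.1) (X.residueField ξ)) :=
  isLat_one (q := RingHom.ker (Cyc.specMap x.1 ξ x.2.1)) (dimOne hδ x.2.1 x.2.2)

theorem nK_eq_divFun [IsLocallyNoetherian X] (hδ : Cyc.IsDimFun X δ) (ξ : X) (x : Dn δ ξ)
    {f : X.residueField ξ} (hf : f ≠ 0) :
    nK (X.presheaf.stalk x.1) f = Cyc.divFun δ ξ f x.1 := by
  have := LocQuot.krullDimLE_one_locQuot hδ x.2.1 x.2.2
  rw [nK_eq_ordFrac (q := RingHom.ker (Cyc.specMap x.1 ξ x.2.1)) (dimOne hδ x.2.1 x.2.2) hf]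
  unfold Cyc.divFun
  rw [dif_pos x.2]
  rfl

theorem surj (ξ : X) : Function.Surjective (algebraMap (X.presheaf.stalk ξ) (X.residueField ξ)) :=
  X.residue_surjective ξ

/-! ### The lattices -/

theorem exists_pow_smul [IsLocallyNoetherian X] (F : X.Modules) {x ξ : X} (h : ξ ⤳ x)
    (hl : Module.length (X.presheaf.stalk ξ) (F.presheaf.stalk ξ) ≠ ⊤) :
    letI := specMod F h
    ∃ n : ℕ, ∀ a ∈ RingHom.ker (Cyc.specMap x ξ h) ^ n, ∀ v : F.presheaf.stalk ξ, a • v = 0 := by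
  let := specMod F h
  obtain ⟨n, hn⟩ := Ideal.exists_pow_le_of_le_radical_of_fg
    (I := maximalIdeal (X.presheaf.stalk ξ))
    (J := Module.annihilator (X.presheaf.stalk ξ) (F.presheaf.stalk ξ)) (by
      intro a ha
      obtain ⟨n, hn⟩ := GenPts.exists_pow_smul_eq_zero hl a ha
      exact ⟨n, Module.mem_annihilator.mpr hn⟩) (IsNoetherian.noetherian _)
  refine ⟨n, fun a ha v => ?_⟩
  have h1 : (RingHom.ker (Cyc.specMap x ξ h)).map (X.presheaf.stalkSpecializes h).hom ≤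
      maximalIdeal (X.presheaf.stalk ξ) := by
    rw [Ideal.map_le_iff_le_comap]
    intro b hb
    rw [LocQuot.mem_ker_specMap_iff] at hb
    rw [Ideal.mem_comap, IsLocalRing.mem_maximalIdeal, mem_nonunits_iff]
    exact hb
  have h2 : (X.presheaf.stalkSpecializes h).hom a ∈ maximalIdeal (X.presheaf.stalk ξ) ^ n := by
    refine (Ideal.pow_right_mono h1 n) ?_
    rw [← Ideal.map_pow]
    exact Ideal.mem_map_of_mem _ ha
  exact Module.mem_annihilator.mp (hn h2) v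

theorem exists_surj_smul (F : X.Modules) (hF : Coh.IsQCoh F) {x ξ : X} (h : ξ ⤳ x) :
    letI := specMod F h
    ∀ v : F.presheaf.stalk ξ, ∃ s ∉ RingHom.ker (Cyc.specMap x ξ h),
      ∃ m : F.presheaf.stalk x, s • v = specLin F h m := by
  let := specMod F h
  have := isLocalizedModule_specLin F hF h
  intro v
  obtain ⟨⟨m, s⟩, hs⟩ := IsLocalizedModule.surj
    (RingHom.ker (Cyc.specMap x ξ h)).primeCompl (specLin F h) v
  exact ⟨s.1, s.2, m, hs⟩

theorem exists_smul_eq_zero' (F : X.Modules) (hF : Coh.IsQCoh F) {x ξ : X} (h : ξ ⤳ x)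
    (m : F.presheaf.stalk x) (hm : F.presheaf.stalkSpecializes h m = 0) :
    ∃ a ∉ RingHom.ker (Cyc.specMap x ξ h), a • m = 0 := by
  let := specMod F h
  have := isLocalizedModule_specLin F hF h
  obtain ⟨c, hc⟩ := IsLocalizedModule.exists_of_eq
    (S := (RingHom.ker (Cyc.specMap x ξ h)).primeCompl) (f := specLin F h) (x₁ := m) (x₂ := 0)
    (by rw [map_zero]; exact hm)
  refine ⟨c.1, c.2, ?_⟩
  rw [smul_zero] at hc
  exact hc

theorem good (hX : Cyc.IsSetup X δ) {F : X.Modules} (hF : Cyc.CohLe δ (k + 1) F) {x : X}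
    (hx : δ x = k) : Good (A := X.presheaf.stalk x) (ι := Up δ x)
      (V := fun ξ => F.presheaf.stalk ξ.1) (fun ξ => spU F x ξ) := by
  have hN := hX.1
  have hfinM : Module.Finite (X.presheaf.stalk x) (F.presheaf.stalk x) := finite_stalk F hF.1 x
  have hup : ∀ ξ : Up δ x, δ ξ.1 = k + 1 := fun ξ => by rw [← ξ.2.2, hx]
  have hfin : {ξ : Up δ x | Nontrivial (F.presheaf.stalk ξ.1)}.Finite := by
    obtain ⟨U, hxU, hU⟩ := GenPts.exists_finite_genPts hX hF.1 hF.2 x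
    refine Set.Finite.of_finite_image (f := Subtype.val) (hU.subset ?_)
      Subtype.val_injective.injOn
    rintro _ ⟨ξ, hξ, rfl⟩
    exact ⟨ξ.2.1.mem_open U.2 hxU, hup ξ, hξ⟩
  have h1 : ∀ ξ : Up δ x, ∃ n : ℕ, ∀ a ∈ RingHom.ker (Cyc.specMap x ξ.1 ξ.2.1) ^ n,
      ∀ v : F.presheaf.stalk ξ.1, a • v = 0 := fun ξ =>
    exists_pow_smul F ξ.2.1 (GenPts.length_stalk_ne_top hX hF.1 hF.2 (hup ξ))
  have h2 : ∀ ξ : Up δ x, ∀ v : F.presheaf.stalk ξ.1, ∃ s ∉ RingHom.ker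
      (Cyc.specMap x ξ.1 ξ.2.1), ∃ m : F.presheaf.stalk x, s • v = spU F x ξ m := fun ξ =>
    exists_surj_smul F hF.1.1 ξ.2.1
  refine ⟨hfin, ?_, ?_, ?_⟩
  · have : Module.Finite (X.presheaf.stalk x)
        (LinearMap.ker (LinearMap.pi fun ξ : Up δ x => spU F x ξ)) := inferInstance
    refine length_ne_top_of_primes ?_
    rintro ⟨m, hm⟩ p hp hpm
    obtain ⟨z, hz, rfl⟩ := LocQuot.exists_eq_ker p
    have hzx : z ≠ x := by
      rintro rfl
      exact hpm (LocQuot.ker_refl z)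
    have h0 : F.presheaf.stalkSpecializes hz m = 0 := by
      by_cases hnt : Nontrivial (F.presheaf.stalk z)
      · have h3 := hF.2 z hnt
        have h4 := LocQuot.lt_of_specializes hX.2.2 hz hzx
        have h5 : δ x + 1 = δ z := by omega
        exact congrFun (show (fun ξ : Up δ x => spU F x ξ m) = 0 from hm) ⟨z, hz, h5⟩
      · rw [not_nontrivial_iff_subsingleton] at hnt
        exact Subsingleton.elim _ _
    obtain ⟨a, ha, ham⟩ := exists_smul_eq_zero' F hF.1.1 hz m h0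
    exact ⟨a, ha, Subtype.ext ham⟩
  · exact isLat_range_pi (fun ξ : Up δ x => spU F x ξ)
      (fun ξ : Up δ x => RingHom.ker (Cyc.specMap x ξ.1 ξ.2.1))
      (fun ξ => dimOne hX.2.2 ξ.2.1 ξ.2.2)
      (fun i j hij => by
        have h3 : i.1 ⤳ j.1 := (LocQuot.ker_le_iff i.2.1 j.2.1).mp hij
        exact Subtype.ext (LocQuot.eq_of_specializes_of_eq hX.2.2 h3 (by rw [hup, hup])))
      hfin h1 h2
  · intro ξ
    exact isLat_range (spU F x ξ) (dimOne hX.2.2 ξ.2.1 ξ.2.2) (h1 ξ) (h2 ξ)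

theorem isLat_Pl (hX : Cyc.IsSetup X δ) {F : X.Modules} (hF : Cyc.CohLe δ (k + 1) F) {ξ : X}
    (hξ : δ ξ = k + 1) (x : Dn δ ξ) : IsLat ⊤ (Pl F ξ x) := by
  have hx : δ x.1 = k := by have := x.2.2; omega
  exact (good hX hF hx).lati ⟨ξ, x.2⟩

theorem exists_isRep (hX : Cyc.IsSetup X δ) {F : X.Modules} (hF : Cyc.CohLe δ (k + 1) F) :
    ∃ g : ∀ ξ : X, Dn δ ξ → ℤ, IsRep δ k F g := by
  classical
  have h : ∀ ξ : X, ∃ g : Dn δ ξ → ℤ, δ ξ = k + 1 →
      ∃ n : ℕ, Val (fun x : Dn δ ξ => X.presheaf.stalk x.1)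
        (X.presheaf.stalk ξ) (X.residueField ξ) n (F.presheaf.stalk ξ) (Pl F ξ) g := by
    intro ξ
    by_cases hξ : δ ξ = k + 1
    · have hl := GenPts.length_stalk_ne_top hX hF.1 hF.2 hξ
      obtain ⟨n, hn⟩ := ENat.ne_top_iff_exists.mp hl
      obtain ⟨g, hg⟩ := exists_val (𝒟 := Dn δ ξ) (A := fun x : Dn δ ξ => X.presheaf.stalk x.1)
        (κ := X.residueField ξ) (surj ξ) n (F.presheaf.stalk ξ) (Pl F ξ) hn.symm
      exact ⟨g, fun _ => ⟨n, hg⟩⟩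
    · exact ⟨0, fun h => absurd h hξ⟩
  choose g hg using h
  exact ⟨g, hg⟩

/-! ### Functions which are sums of principal divisors -/

/-- The functions which are locally finite sums of principal divisors. -/
def RF (δ : X → ℤ) (k : ℤ) : AddSubgroup (X → ℤ) where
  carrier := {α | ∃ c : AlgebraicCycle X ℤ, Cyc.RatEquivZero δ k c ∧ ⇑c = α}
  zero_mem' := ⟨0, DivFun.ratEquivZero_zero, rfl⟩
  add_mem' := by
    rintro _ _ ⟨c, hc, rfl⟩ ⟨d, hd, rfl⟩
    exact ⟨c + d, DivFun.RatEquivZero.add hc hd, rfl⟩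
  neg_mem' := by
    rintro _ ⟨c, hc, rfl⟩
    exact ⟨-c, DivFun.RatEquivZero.neg hc, rfl⟩

theorem mem_RF_iff (α : AlgebraicCycle X ℤ) : ⇑α ∈ RF δ k ↔ Cyc.RatEquivZero δ k α := by
  constructor
  · rintro ⟨c, hc, h⟩
    exact DivFun.RatEquivZero.congr hc (fun x => congrFun h x)
  · intro h
    exact ⟨α, h, rfl⟩

theorem cF_apply (F : X.Modules) (g : ∀ ξ : X, Dn δ ξ → ℤ) {x : X} (hx : δ x = k) :
    cF δ k F g x = cpt (A := X.presheaf.stalk x) (ι := Up δ x)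
      (V := fun ξ => F.presheaf.stalk ξ.1) (fun ξ => spU F x ξ) (fun ξ => g ξ.1 ⟨x, ξ.2⟩) :=
  if_pos hx

theorem cF_of_ne (F : X.Modules) (g : ∀ ξ : X, Dn δ ξ → ℤ) {x : X} (hx : δ x ≠ k) :
    cF δ k F g x = 0 := if_neg hx

theorem IsRep.eq_zero {F : X.Modules} {g : ∀ ξ : X, Dn δ ξ → ℤ} (hg : IsRep δ k F g) {ξ : X}
    (hξ : δ ξ = k + 1) (h : Subsingleton (F.presheaf.stalk ξ)) (x : Dn δ ξ) : g ξ x = 0 := by
  obtain ⟨n, hn⟩ := hg ξ hξ
  exact congrFun (hn.zero (surj ξ)) x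

theorem cF_sub_mem (hX : Cyc.IsSetup X δ) {F : X.Modules} (hF : Cyc.CohLe δ (k + 1) F)
    {g g' : ∀ ξ : X, Dn δ ξ → ℤ} (hg : IsRep δ k F g) (hg' : IsRep δ k F g') :
    cF δ k F g - cF δ k F g' ∈ RF δ k := by
  classical
  have hN := hX.1
  have h1 : ∀ ξ : GenPts.genPts δ (k + 1) F, ∃ f : X.residueField ξ.1, f ≠ 0 ∧
      ∀ x : Dn δ ξ.1, g ξ.1 x - g' ξ.1 x = Cyc.divFun δ ξ.1 f x.1 := by
    rintro ⟨ξ, hξ, hnt⟩
    obtain ⟨n, hn⟩ := hg ξ hξ
    obtain ⟨m, hm⟩ := hg' ξ hξ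
    obtain ⟨f, hf, hfx⟩ := Val.unique (surj ξ) (hone hX.2.2 ξ) n
      (fun x => isLat_Pl hX hF hξ x) hn hm
    exact ⟨f, hf, fun x => by rw [hfx x, nK_eq_divFun hX.2.2 ξ x hf]⟩
  choose f hf hfx using h1
  have hlf : DivFun.LocFin (fun ξ : GenPts.genPts δ (k + 1) F => ξ.1) := by
    intro x
    obtain ⟨U, hxU, hU⟩ := GenPts.exists_finite_genPts hX hF.1 hF.2 x
    refine ⟨U, U.2, hxU, ?_⟩
    refine Set.Finite.of_finite_image (f := Subtype.val) (hU.subset ?_)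
      Subtype.val_injective.injOn
    rintro _ ⟨ξ, hξ, rfl⟩
    exact ⟨hξ, ξ.2⟩
  obtain ⟨c, hc⟩ := DivFun.exists_cycle_sum_divFun hX.2.2 hlf f
  refine ⟨c, DivFun.ratEquivZero_of _ f (fun ξ => ξ.2.1) hf hlf c hc, ?_⟩
  funext x
  rw [hc, Pi.sub_apply]
  by_cases hx : δ x = k
  swap
  · rw [cF_of_ne F g hx, cF_of_ne F g' hx, sub_zero]
    refine finsum_eq_zero_of_forall_eq_zero fun ξ => ?_
    by_contra hne
    have h2 := (DivFun.divFun_ne_zero hne).2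
    have h3 := ξ.2.1
    omega
  · rw [cF_apply F g hx, cF_apply F g' hx]
    have hup : ∀ ξ : Up δ x, δ ξ.1 = k + 1 := fun ξ => by rw [← ξ.2.2, hx]
    have G := good hX hF hx
    have s1 : (Function.support fun ξ : Up δ x => g ξ.1 ⟨x, ξ.2⟩).Finite := by
      refine G.fin.subset fun ξ hξ => ?_
      by_contra hcon
      rw [Set.mem_ofPred_eq, not_nontrivial_iff_subsingleton] at hcon
      exact hξ (hg.eq_zero (hup ξ) hcon _)
    have s2 : (Function.support fun ξ : Up δ x => g' ξ.1 ⟨x, ξ.2⟩).Finite := by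
      refine G.fin.subset fun ξ hξ => ?_
      by_contra hcon
      rw [Set.mem_ofPred_eq, not_nontrivial_iff_subsingleton] at hcon
      exact hξ (hg'.eq_zero (hup ξ) hcon _)
    unfold cpt
    rw [add_sub_add_left_eq_sub, ← finsum_sub_distrib s1 s2]
    let H : X → ℤ := fun ξ => if h : (ξ ⤳ x ∧ δ x + 1 = δ ξ) then
      g ξ ⟨x, h⟩ - g' ξ ⟨x, h⟩ else 0
    have hH1 : ∀ (ξ : X) (h : ξ ⤳ x ∧ δ x + 1 = δ ξ), H ξ = g ξ ⟨x, h⟩ - g' ξ ⟨x, h⟩ := by
      intro ξ h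
      simp only [H]
      rw [dif_pos h]
    have hH2 : ∀ (ξ : X), ¬ (ξ ⤳ x ∧ δ x + 1 = δ ξ) → H ξ = 0 := by
      intro ξ h
      simp only [H]
      rw [dif_neg h]
    have e1 : (∑ᶠ ξ : Up δ x, (g ξ.1 ⟨x, ξ.2⟩ - g' ξ.1 ⟨x, ξ.2⟩)) = ∑ᶠ ξ : X, H ξ := by
      have e2 : (∑ᶠ ξ : Up δ x, (g ξ.1 ⟨x, ξ.2⟩ - g' ξ.1 ⟨x, ξ.2⟩)) = ∑ᶠ ξ : Up δ x, H ξ.1 := by
        refine finsum_congr fun ξ => ?_
        exact (hH1 ξ.1 ξ.2).symm
      rw [e2, finsum_subtype_eq_finsum_cond (f := H) (fun ξ => ξ ⤳ x ∧ δ x + 1 = δ ξ)]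
      refine finsum_congr fun ξ => ?_
      by_cases h : ξ ⤳ x ∧ δ x + 1 = δ ξ
      · exact finsum_eq_if.trans (if_pos h)
      · refine (finsum_eq_if.trans (if_neg h)).trans ?_
        exact (hH2 ξ h).symm
    have e3 : (∑ᶠ ξ : GenPts.genPts δ (k + 1) F, Cyc.divFun δ ξ.1 (f ξ) x) = ∑ᶠ ξ : X, H ξ := by
      have e4 : (∑ᶠ ξ : GenPts.genPts δ (k + 1) F, Cyc.divFun δ ξ.1 (f ξ) x) =
          ∑ᶠ ξ : GenPts.genPts δ (k + 1) F, H ξ.1 := by
        refine finsum_congr fun ξ => ?_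
        by_cases h : ξ.1 ⤳ x ∧ δ x + 1 = δ ξ.1
        · have := hfx ξ ⟨x, h⟩
          exact this.symm.trans (hH1 ξ.1 h).symm
        · exact (OrdFrac.divFun_eq_zero δ h _).trans (hH2 ξ.1 h).symm
      rw [e4, finsum_subtype_eq_finsum_cond (f := H) (fun ξ => ξ ∈ GenPts.genPts δ (k + 1) F)]
      refine finsum_congr fun ξ => ?_
      by_cases h : ξ ∈ GenPts.genPts δ (k + 1) F
      · exact finsum_eq_if.trans (if_pos h)
      · refine (finsum_eq_if.trans (if_neg h)).trans ?_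
        by_cases h2 : ξ ⤳ x ∧ δ x + 1 = δ ξ
        · have h3 : δ ξ = k + 1 := by rw [← h2.2, hx]
          have h4 : Subsingleton (F.presheaf.stalk ξ) := by
            rw [← not_nontrivial_iff_subsingleton]
            exact fun h5 => h ⟨h3, h5⟩
          rw [hH1 ξ h2, hg.eq_zero h3 h4, hg'.eq_zero h3 h4, sub_zero]
        · exact (hH2 ξ h2).symm
    rw [e1, e3]

/-! ### Additivity -/

theorem stalkLin_specializes {M N : X.Modules} (φ : M ⟶ N) {x ξ : X} (h : ξ ⤳ x)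
    (m : M.presheaf.stalk x) : stalkLin φ ξ (M.presheaf.stalkSpecializes h m) =
      N.presheaf.stalkSpecializes h (stalkLin φ x m) := by
  obtain ⟨U, hxU, m, rfl⟩ := M.presheaf.exists_germ_eq m
  rw [germ_stalkSpecializes, stalkLin_germ, stalkLin_germ, germ_stalkSpecializes]

/-- The stalk map over the smaller local ring. -/
noncomputable def stU {M N : X.Modules} (φ : M ⟶ N) (x : X) (ξ : Up δ x) :
    M.presheaf.stalk ξ.1 →ₗ[X.presheaf.stalk x] N.presheaf.stalk ξ.1 where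
  toFun := stalkLin φ ξ.1
  map_add' := map_add _
  map_smul' := fun _ _ => (stalkLin φ ξ.1).map_smul _ _

/-- The stalk map over the smaller local ring. -/
noncomputable def stD {M N : X.Modules} (φ : M ⟶ N) (ξ : X) (x : Dn δ ξ) :
    M.presheaf.stalk ξ →ₗ[X.presheaf.stalk x.1] N.presheaf.stalk ξ where
  toFun := stalkLin φ ξ
  map_add' := map_add _
  map_smul' := fun _ _ => (stalkLin φ ξ).map_smul _ _

theorem exists_rep_exact (hX : Cyc.IsSetup X δ) (T : ShortComplex X.Modules) (hT : T.ShortExact)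
    (h1 : Cyc.CohLe δ (k + 1) T.X₁) (h2 : Cyc.CohLe δ (k + 1) T.X₂)
    (h3 : Cyc.CohLe δ (k + 1) T.X₃) {g' g'' : ∀ ξ : X, Dn δ ξ → ℤ}
    (hg' : IsRep δ k T.X₁ g') (hg'' : IsRep δ k T.X₃ g'') :
    ∃ g : ∀ ξ : X, Dn δ ξ → ℤ, IsRep δ k T.X₂ g ∧
      cF δ k T.X₂ g = cF δ k T.X₁ g' + cF δ k T.X₃ g'' := by
  have hN := hX.1
  refine ⟨fun ξ x => (g' ξ x + idx ((Pl T.X₂ ξ x).comap (stD T.f ξ x)) (Pl T.X₁ ξ x)) + g'' ξ x,
    ?_, ?_⟩
  · intro ξ hξ
    obtain ⟨i1, i2, i3⟩ := stalkLin_shortExact T hT ξ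
    obtain ⟨n', hn'⟩ := hg' ξ hξ
    obtain ⟨n'', hn''⟩ := hg'' ξ hξ
    have hch := Val.change (hone hX.2.2 ξ) n' (P := Pl T.X₁ ξ)
      (P' := fun x => (Pl T.X₂ ξ x).comap (stD T.f ξ x))
      (fun x => isLat_Pl hX h1 hξ x)
      (fun x => isLat_comap (stD T.f ξ x) i1 (isLat_Pl hX h2 hξ x)) hn'
    refine ⟨n' + n'', ?_⟩
    refine Val.exact n'' (stalkLin T.f ξ) (stalkLin T.g ξ) i1 i3
      ((LinearMap.exact_iff.mp i2).symm) (P := Pl T.X₂ ξ) (P'' := Pl T.X₃ ξ)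
      (fun x v => Iff.rfl) ?_ hch hn''
    intro x v
    constructor
    · rintro ⟨m, rfl⟩
      obtain ⟨n, rfl⟩ := (stalkLin_shortExact T hT x.1).2.2 m
      exact ⟨spD T.X₂ ξ x n, ⟨n, rfl⟩, stalkLin_specializes T.g x.2.1 n⟩
    · rintro ⟨_, ⟨n, rfl⟩, rfl⟩
      exact ⟨stalkLin T.g x.1 n, (stalkLin_specializes T.g x.2.1 n).symm⟩
  · funext x
    rw [Pi.add_apply]
    by_cases hx : δ x = k
    swap
    · rw [cF_of_ne _ _ hx, cF_of_ne _ _ hx, cF_of_ne _ _ hx, add_zero]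
    rw [cF_apply _ _ hx, cF_apply _ _ hx, cF_apply _ _ hx]
    have hup : ∀ ξ : Up δ x, δ ξ.1 = k + 1 := fun ξ => by rw [← ξ.2.2, hx]
    obtain ⟨i1, i2, i3⟩ := stalkLin_shortExact T hT x
    exact cpt_exact (A := X.presheaf.stalk x) (ι := Up δ x)
      (fun ξ => spU T.X₁ x ξ) (fun ξ => spU T.X₂ x ξ) (fun ξ => spU T.X₃ x ξ)
      (stalkLin T.f x) (stalkLin T.g x) (fun ξ => stU T.f x ξ) (fun ξ => stU T.g x ξ)
      i1 i3 ((LinearMap.exact_iff.mp i2).symm)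
      (fun ξ => (stalkLin_shortExact T hT ξ.1).1)
      (fun ξ => (stalkLin_shortExact T hT ξ.1).2.2)
      (fun ξ => by
        ext v
        exact ((stalkLin_shortExact T hT ξ.1).2.1 v).symm)
      (fun ξ m => stalkLin_specializes T.f ξ.2.1 m)
      (fun ξ m => stalkLin_specializes T.g ξ.2.1 m)
      (good hX h1 hx) (good hX h2 hx) (good hX h3 hx)
      (fun ξ => g' ξ.1 ⟨x, ξ.2⟩) (fun ξ => g'' ξ.1 ⟨x, ξ.2⟩)
      (fun ξ hξ => hg'.eq_zero (hup ξ) (stalkLin_shortExact T hT ξ.1).1.subsingleton _)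
      (fun ξ hξ => hg''.eq_zero (hup ξ) (stalkLin_shortExact T hT ξ.1).2.2.subsingleton _)

end K305.PhiLoc
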