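import Groth.Agent.Cyc.K305.PhiLoc
import Groth.Agent.CycB.K0Iso

/-!
# The homomorphism from `K_0(Coh_{≤k+1})` to `k`-cycles modulo rational equivalence
-/

set_option autoImplicit false

universe u

open CategoryTheory CategoryTheory.Limits AlgebraicGeometry TopologicalSpace ZeroObject

namespace K305.PhiMap

open Submodule IsLocalRing Groth.Agent.CycB Groth.Agent.CycB.KeyIdx Groth.Agent.CycB.KeyLat
  Groth.Agent.CycB.KeyDet Groth.Agent.CycB.StalkExact Groth.Agent.CycB.StalkLoc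
  K305.ValLoc K305.IdxPt K305.PhiLoc

variable {X : Scheme.{u}} {δ : X → ℤ} {k : ℤ}

theorem cohLe_mono {a b : ℤ} (h : a ≤ b) {F : X.Modules} (hF : Cyc.CohLe δ a F) :
    Cyc.CohLe δ b F := ⟨hF.1, fun x hx => (hF.2 x hx).trans h⟩

/-- On sheaves with support of dimension at most `k` the local index is the length. -/
theorem cF_of_cohLe {F : X.Modules} (hF : Cyc.CohLe δ k F)
    {g : ∀ ξ : X, Dn δ ξ → ℤ} (hg : IsRep δ k F g) : cF δ k F g = Cyc.sheafFun δ k F := by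
  classical
  funext x
  by_cases hx : δ x = k
  swap
  · rw [cF_of_ne _ _ hx, CycleSheaf.sheafFun_of_ne _ hx]
  have hup : ∀ ξ : Up δ x, δ ξ.1 = k + 1 := fun ξ => by rw [← ξ.2.2, hx]
  have hsub : ∀ ξ : Up δ x, Subsingleton (F.presheaf.stalk ξ.1) := by
    intro ξ
    rw [← not_nontrivial_iff_subsingleton]
    intro hn
    have h1 := hF.2 _ hn
    have h2 := hup ξ
    omega
  have hsub' : Subsingleton (∀ ξ : Up δ x, F.presheaf.stalk ξ.1) := inferInstance
  rw [cF_apply _ _ hx]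
  unfold cpt Cyc.sheafFun
  rw [if_pos hx]
  have e1 : (∑ᶠ ξ : Up δ x, g ξ.1 ⟨x, ξ.2⟩) = 0 :=
    finsum_eq_zero_of_forall_eq_zero fun ξ => hg.eq_zero (hup ξ) (hsub ξ) _
  have e2 : LinearMap.ker (LinearMap.pi fun ξ : Up δ x => spU F x ξ) = ⊤ := by
    rw [eq_top_iff]
    intro m _
    exact Subsingleton.elim _ _
  have e3 : LinearMap.range (LinearMap.pi fun ξ : Up δ x => spU F x ξ) =
      Submodule.pi Set.univ (fun ξ : Up δ x => LinearMap.range (spU F x ξ)) := by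
    ext v
    have h0 : v = 0 := Subsingleton.elim _ _
    rw [h0]
    exact ⟨fun _ => zero_mem _, fun _ => zero_mem _⟩
  rw [e1, e3, idx_self, e2, add_zero, add_zero]
  congr 2
  exact Submodule.topEquiv.length_eq

open Classical in
/-- The class of the local index. -/
noncomputable def phi (hX : Cyc.IsSetup X δ) (k : ℤ) (F : X.Modules) : (X → ℤ) ⧸ RF δ k :=
  if hF : Cyc.CohLe δ (k + 1) F then
    QuotientAddGroup.mk (cF δ k F (exists_isRep hX hF).choose) else 0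

theorem phi_eq (hX : Cyc.IsSetup X δ) {F : X.Modules} (hF : Cyc.CohLe δ (k + 1) F)
    {g : ∀ ξ : X, Dn δ ξ → ℤ} (hg : IsRep δ k F g) :
    phi hX k F = QuotientAddGroup.mk (cF δ k F g) := by
  unfold phi
  rw [dif_pos hF, QuotientAddGroup.eq_iff_sub_mem]
  exact cF_sub_mem hX hF (exists_isRep hX hF).choose_spec hg

theorem phi_exact (hX : Cyc.IsSetup X δ) (S : ShortComplex X.Modules) (hS : S.ShortExact)
    (h1 : Cyc.CohLe δ (k + 1) S.X₁) (h2 : Cyc.CohLe δ (k + 1) S.X₂)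
    (h3 : Cyc.CohLe δ (k + 1) S.X₃) : phi hX k S.X₂ = phi hX k S.X₁ + phi hX k S.X₃ := by
  obtain ⟨g', hg'⟩ := exists_isRep hX h1
  obtain ⟨g'', hg''⟩ := exists_isRep hX h3
  obtain ⟨g, hg, e⟩ := exists_rep_exact hX S hS h1 h2 h3 hg' hg''
  rw [phi_eq hX h1 hg', phi_eq hX h2 hg, phi_eq hX h3 hg'', e]
  rfl

theorem phi_of_cohLe (hX : Cyc.IsSetup X δ) {F : X.Modules} (hF : Cyc.CohLe δ k F) :
    phi hX k F = QuotientAddGroup.mk (Cyc.sheafFun δ k F) := by
  have hF' : Cyc.CohLe δ (k + 1) F := cohLe_mono (by omega) hF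
  obtain ⟨g, hg⟩ := exists_isRep hX hF'
  rw [phi_eq hX hF' hg, cF_of_cohLe hF hg]

theorem phi_of_cohLe_pred (hX : Cyc.IsSetup X δ) {F : X.Modules} (hF : Cyc.CohLe δ (k - 1) F) :
    phi hX k F = 0 := by
  rw [phi_of_cohLe hX (cohLe_mono (by omega) hF)]
  have : Cyc.sheafFun δ k F = 0 := by
    funext x
    by_cases hx : δ x = k
    · refine CycleSheaf.sheafFun_eq_zero_of_subsingleton _ _ ?_
      rw [← not_nontrivial_iff_subsingleton]
      intro hn
      have := hF.2 x hn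
      omega
    · exact CycleSheaf.sheafFun_of_ne _ hx
  rw [this]
  rfl

/-- The homomorphism `K_0(Coh_{≤k+1}/Coh_{≤k-1}) → functions modulo sums of principal divisors`. -/
noncomputable def Phi (hX : Cyc.IsSetup X δ) (k : ℤ) :
    Cyc.K0CohQuot δ (k + 1) (k - 1) →+ (X → ℤ) ⧸ RF δ k :=
  K0Iso.lift δ (k + 1) (k - 1) (phi hX k) (phi_exact hX)
    (fun _ _ h => phi_of_cohLe_pred hX h)

theorem Phi_toQ (hX : Cyc.IsSetup X δ) {F : X.Modules} (hF : Cyc.CohLe δ (k + 1) F) :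
    Phi hX k (Cyc.toK0CohQuot δ (k + 1) (k - 1) F) = phi hX k F :=
  K0Iso.lift_toQ _ _ _ _ _ hF

theorem Phi_toQ_of_cohLe (hX : Cyc.IsSetup X δ) {F : X.Modules} (hF : Cyc.CohLe δ k F) :
    Phi hX k (Cyc.toK0CohQuot δ (k + 1) (k - 1) F) = QuotientAddGroup.mk (Cyc.sheafFun δ k F) := by
  rw [Phi_toQ hX (cohLe_mono (by omega) hF), phi_of_cohLe hX hF]

/-- Cycles with the same class in `K_0` are rationally equivalent. -/
theorem ratEquivZero_of_toQ_eq (hX : Cyc.IsSetup X δ) (α : AlgebraicCycle X ℤ)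
    (hα : α ∈ Cyc.Zk X δ k)
    (h : Cyc.toK0CohQuot δ (k + 1) (k - 1) (Cyc.cycleSheafPos ⇑α) =
      Cyc.toK0CohQuot δ (k + 1) (k - 1) (Cyc.cycleSheafNeg ⇑α)) : Cyc.RatEquivZero δ k α := by
  have hα1 : ∀ z, ∃ t ∈ nhds z, (t ∩ Function.support ⇑α).Finite := fun z =>
    α.supportLocallyFiniteWithinDomain' z trivial
  have hα2 : ∀ z, ∃ t ∈ nhds z, (t ∩ Function.support (-⇑α)).Finite := fun z => by
    rw [Function.support_neg]
    exact hα1 z
  have p1 : Cyc.CohLe δ k (Cyc.cycleSheafPos ⇑α) := CycleSheaf.cohLe_cycleSheafPos hX _ hα1 hα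
  have p2 : Cyc.CohLe δ k (Cyc.cycleSheafNeg ⇑α) :=
    CycleSheaf.cohLe_cycleSheafPos hX _ hα2 (fun x hx => by rw [Pi.neg_apply, hα x hx, neg_zero])
  have e := congrArg (Phi hX k) h
  rw [Phi_toQ_of_cohLe hX p1, Phi_toQ_of_cohLe hX p2, QuotientAddGroup.eq_iff_sub_mem,
    CycleSheaf.sheafFun_pos_sub_neg hX α hα] at e
  exact (mem_RF_iff α).mp e

/-- The homology sheaves of a 2-periodic complex have rationally equivalent cycles. -/
theorem ratEquiv_of_phi_eq (hX : Cyc.IsSetup X δ) {F G : X.Modules} (hF : Cyc.CohLe δ k F)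
    (hG : Cyc.CohLe δ k G) (h : phi hX k F = phi hX k G) (γ₀ γ₁ : AlgebraicCycle X ℤ)
    (hγ₀ : ⇑γ₀ = Cyc.sheafFun δ k F) (hγ₁ : ⇑γ₁ = Cyc.sheafFun δ k G) :
    Cyc.RatEquiv δ k γ₀ γ₁ := by
  rw [phi_of_cohLe hX hF, phi_of_cohLe hX hG, QuotientAddGroup.eq_iff_sub_mem, ← hγ₀, ← hγ₁] at h
  exact (mem_RF_iff (γ₀ - γ₁)).mp h

theorem cohLe_zero [IsLocallyNoetherian X] (a : ℤ) {Z : X.Modules} (hZ : IsZero Z) :
    Cyc.CohLe δ a Z :=
  ⟨Groth.Agent.CohqB.LocalQC.isCoh_of_isZero hZ, fun x hx => by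
    have h1 : x ∈ LFCoprod.supp Z := hx
    rw [LFCoprod.supp_isZero hZ] at h1
    exact absurd h1 (Set.notMem_empty x)⟩

theorem phi_iso (hX : Cyc.IsSetup X δ) {M N : X.Modules} (e : M ≅ N)
    (hM : Cyc.CohLe δ (k + 1) M) (hN : Cyc.CohLe δ (k + 1) N) : phi hX k M = phi hX k N := by
  have := hX.1
  have hS : (ShortComplex.mk (0 : (0 : X.Modules) ⟶ M) e.hom (by simp)).ShortExact := by
    refine ⟨?_⟩
    rw [ShortComplex.exact_iff_mono _ rfl]
    dsimp only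
    infer_instance
  have h0 : Cyc.CohLe δ (k - 1) (0 : X.Modules) := cohLe_zero _ (isZero_zero _)
  have e1 := phi_exact hX _ hS (cohLe_mono (by omega) h0) hM hN
  dsimp only at e1
  rw [phi_of_cohLe_pred hX h0, zero_add] at e1
  exact e1

theorem cohLe_kernel [IsLocallyNoetherian X] {a : ℤ} {M N : X.Modules} (hM : Cyc.CohLe δ a M)
    (hN : Cyc.CohLe δ a N) (u : M ⟶ N) : Cyc.CohLe δ a (kernel u) :=
  ⟨CohProp.isCoh_kernel u hM.1 hN.1, fun x hx => hM.2 x (LFCoprod.supp_mono (kernel.ι u) hx)⟩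

theorem cohLe_cokernel {a : ℤ} {M N : X.Modules} (hM : Cyc.CohLe δ a M)
    (hN : Cyc.CohLe δ a N) (u : M ⟶ N) : Cyc.CohLe δ a (cokernel u) :=
  ⟨CohProp.isCoh_cokernel u hM.1 hN.1, fun x hx => hN.2 x (LFCoprod.supp_epi (cokernel.π u) hx)⟩

theorem phi_map (hX : Cyc.IsSetup X δ) {M N : X.Modules} (u : M ⟶ N)
    (hM : Cyc.CohLe δ (k + 1) M) (hN : Cyc.CohLe δ (k + 1) N) :
    phi hX k N + phi hX k (kernel u) = phi hX k M + phi hX k (cokernel u) := by
  have := hX.1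
  have hK := cohLe_kernel hM hN u
  have hC := cohLe_cokernel hM hN u
  have hI := K0Iso.cohLe_image' hM hN u
  have h1 := phi_exact hX _ (Groth.Agent.Ega3B.Devissage.image_ses₁ u) hK hM hI
  have h2 := phi_exact hX _ (Groth.Agent.Ega3B.Devissage.image_ses₂ u) hI hN hC
  dsimp only at h1 h2
  rw [h1, h2]
  abel

theorem phi_homology (hX : Cyc.IsSetup X δ) {F : X.Modules} (hF : Cyc.CohLe δ (k + 1) F)
    (φ ψ : F ⟶ F) (h : φ ≫ ψ = 0) :
    phi hX k (kernel ψ) + phi hX k (kernel φ) =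
      phi hX k F + phi hX k (ShortComplex.mk φ ψ h).homology := by
  have := hX.1
  let S := ShortComplex.mk φ ψ h
  have hcyc : Cyc.CohLe δ (k + 1) S.cycles := by
    have e := S.cyclesIsoKernel
    exact ⟨Groth.Agent.CohqB.LocalQC.isCoh_of_iso e.symm (cohLe_kernel hF hF ψ).1, fun x hx =>
      hF.2 x (LFCoprod.supp_mono S.iCycles hx)⟩
  have e1 : phi hX k S.cycles = phi hX k (kernel ψ) :=
    phi_iso hX S.cyclesIsoKernel hcyc (cohLe_kernel hF hF ψ)
  have e2 : phi hX k (kernel S.toCycles) = phi hX k (kernel φ) := by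
    have i1 : kernel (S.toCycles ≫ S.iCycles) ≅ kernel S.toCycles :=
      kernelCompMono S.toCycles S.iCycles
    have i2 : kernel (S.toCycles ≫ S.iCycles) ≅ kernel φ := kernelIsoOfEq S.toCycles_i
    exact phi_iso hX (i1.symm ≪≫ i2) (cohLe_kernel hF hcyc S.toCycles) (cohLe_kernel hF hF φ)
  have e3 : cokernel S.toCycles ≅ S.homology :=
    (cokernelIsCokernel S.toCycles).coconePointUniqueUpToIso S.homologyIsCokernel
  have hcok := cohLe_cokernel hF hcyc S.toCycles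
  have hhom : Cyc.CohLe δ (k + 1) S.homology :=
    ⟨Groth.Agent.CohqB.LocalQC.isCoh_of_iso e3 hcok.1, fun x hx =>
      hcok.2 x (LFCoprod.supp_mono e3.inv hx)⟩
  have e4 := phi_iso hX e3 hcok hhom
  have e5 := phi_map hX S.toCycles hF hcyc
  rw [e1, e2, e4] at e5
  exact e5

theorem isCoh_homology [IsLocallyNoetherian X] {F : X.Modules} (φ ψ : F ⟶ F) (h : φ ≫ ψ = 0)
    (hF : Coh.IsCoh F) : Coh.IsCoh (ShortComplex.mk φ ψ h).homology := by
  let S := ShortComplex.mk φ ψ h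
  have hcyc : Coh.IsCoh S.cycles :=
    Groth.Agent.CohqB.LocalQC.isCoh_of_iso S.cyclesIsoKernel.symm (CohProp.isCoh_kernel ψ hF hF)
  have e3 : cokernel S.toCycles ≅ S.homology :=
    (cokernelIsCokernel S.toCycles).coconePointUniqueUpToIso S.homologyIsCokernel
  exact Groth.Agent.CohqB.LocalQC.isCoh_of_iso e3 (CohProp.isCoh_cokernel S.toCycles hF hcyc)

end K305.PhiMap
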