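import Groth.Agent.Cyc.K305.VBCap
import Groth.Agent.CycB.AffBundle

/-!
# Vector bundles are Zariski locally affine spaces; surjectivity of the flat pullback
-/

set_option autoImplicit false
universe u

open CategoryTheory CategoryTheory.Limits AlgebraicGeometry Opposite TopologicalSpace

namespace K305.VBAff

open Cyc K308.Grp K36.SymAlg K305.VBLoc K305.VBInj K305.VBCap

/-- A morphism which is an affine space over an affine open. -/
theorem exists_iso_of_isPullback {X Y : Scheme.{u}} (f : X ⟶ Y) (U : Y.Opens)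
    (hU : IsAffineOpen U) {T : CommRingCat.{u}} (ρ : Γ(Y, U) ⟶ T) (c : Spec T ⟶ X)
    (h : IsPullback c (Spec.map ρ) f hU.fromSpec) {I : Type u}
    (σ : MvPolynomial I Γ(Y, U) ≃+* T) (hσ : ∀ r, σ (MvPolynomial.C r) = ρ r) :
    ∃ e : (↑(f ⁻¹ᵁ U) : Scheme.{u}) ≅ 𝔸(I; (↑U : Scheme.{u})),
      e.hom ≫ (𝔸(I; (↑U : Scheme.{u})) ↘ (↑U : Scheme.{u})) = f ∣_ U := by
  have h1 : IsPullback (f ⁻¹ᵁ U).ι (f ∣_ U) f U.ι := (isPullback_morphismRestrict f U).flip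
  have h2 : IsPullback c (Spec.map ρ ≫ hU.isoSpec.inv) f U.ι :=
    h.of_iso (Iso.refl _) (Iso.refl _) hU.isoSpec.symm (Iso.refl _) (by simp) (by simp) (by simp)
      (by simp)
  let e1 : (↑(f ⁻¹ᵁ U) : Scheme.{u}) ≅ Spec T := h1.isoIsPullback _ _ h2
  have he1 : e1.hom ≫ Spec.map ρ ≫ hU.isoSpec.inv = f ∣_ U := h1.isoIsPullback_hom_snd _ _ h2
  let e2 : Spec T ≅ Spec (CommRingCat.of (MvPolynomial I Γ(Y, U))) :=
    Scheme.Spec.mapIso (RingEquiv.toCommRingCatIso σ).op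
  have he2 : e2.hom ≫ Spec.map (CommRingCat.ofHom (MvPolynomial.C (σ := I) (R := Γ(Y, U)))) =
      Spec.map ρ := by
    change Spec.map (CommRingCat.ofHom σ.toRingHom) ≫ Spec.map _ = _
    rw [← Spec.map_comp]
    congr 1
    ext r
    exact hσ r
  let e3 := (AffineSpace.SpecIso I Γ(Y, U)).symm
  have he3 : e3.hom ≫ (𝔸(I; Spec Γ(Y, U)) ↘ Spec Γ(Y, U)) =
      Spec.map (CommRingCat.ofHom (MvPolynomial.C (σ := I) (R := Γ(Y, U)))) :=
    AffineSpace.SpecIso_inv_over _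
  have h4 := AffineSpace.isPullback_map (n := I) hU.isoSpec.inv
  have : IsIso (AffineSpace.map I hU.isoSpec.inv) :=
    MorphismProperty.of_isPullback (P := MorphismProperty.isomorphisms Scheme.{u}) h4.flip
      (inferInstanceAs (IsIso hU.isoSpec.inv))
  refine ⟨e1 ≪≫ e2 ≪≫ e3 ≪≫ asIso (AffineSpace.map I hU.isoSpec.inv), ?_⟩
  simp only [Iso.trans_hom, asIso_hom, Category.assoc]
  rw [AffineSpace.map_over]
  rw [reassoc_of% he3, reassoc_of% he2, he1]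

variable {S : Scheme.{u}} {E : S.Modules} {A : RelSpec.QCAlg S} {j : E ⟶ A.toModule}

theorem exists_iso (hE : Coh.IsQCoh E) (hA : RelSpec.IsSymAlg E A j) {n : ℕ}
    (hn : FlatMod.IsFinLocFreeOfRank n E) (x : S) : ∃ U : S.Opens, x ∈ U ∧
      ∃ e : (↑(A.π ⁻¹ᵁ U) : Scheme.{u}) ≅ 𝔸(ULift.{u} (Fin n); (↑U : Scheme.{u})),
        e.hom ≫ (𝔸(ULift.{u} (Fin n); (↑U : Scheme.{u})) ↘ (↑U : Scheme.{u})) = A.π ∣_ U := by
  obtain ⟨U, hxU, ⟨b⟩⟩ := Groth.Agent.Vancyc.H120.VBundle.exists_basis hn x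
  refine ⟨U.toOpens, hxU, exists_iso_of_isPullback A.π U.toOpens U.2 _ (A.ι U.toOpens U.2)
    (K36.SpecLocal.isPullback_ι A U.toOpens U.2)
    (polyEquiv hE hA U.2 (b.reindex Equiv.ulift.symm)) fun r => ?_⟩
  exact polyEquiv_C hE hA U.2 _ r

variable {δS : S → ℤ} {n : ℕ}

/-- **Surjectivity** of the flat pullback to a vector bundle. -/
theorem exists_pl (V : VB S δS E n) (k : ℤ) {β : AlgebraicCycle V.A.spec ℤ}
    (hβ : β ∈ Zk V.A.spec V.δ (k + n)) :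
    ∃ α ∈ Zk S δS k, V.pl (cl δS α) = cl V.δ β := by
  obtain ⟨α, β', hα, hβ', h⟩ := Groth.Agent.CycB.AffBundle.exists_pull_of_affineBundle (f := V.A.π)
    V.δ δS V.setup V.base n V.hasRelDim V.compat (exists_iso V.qc V.sym V.rk) k β hβ
  refine ⟨α, hα, ?_⟩
  rw [VB.pl, pull_cl V.setup V.base V.A.π V.shift hβ']
  exact (cl_eq_of_ratEquiv h).symm

end K305.VBAff
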