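import Groth.Agent.Cyc.K305.VBScale
import Groth.Agent.Fdesc.StructMod

/-!
# The affine bundle `{t = u} ⊂ V(E)` and the complement of `{t = 0}`
-/

set_option autoImplicit false
universe u

open CategoryTheory CategoryTheory.Limits AlgebraicGeometry Opposite TopologicalSpace

namespace K305.VBAffBun

open Groth.Agent.Fdesc.LocGen K36.QSpec K36.SymAlg K305.VBBC K305.VBPt K305.VBScale

variable {S : Scheme.{u}} {T T' : Scheme.{u}} {f : T ⟶ S} {f' : T' ⟶ S}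

theorem isIso_unit_π : IsIso (RelSpec.QCAlg.unit S).π := by
  apply K36.SpecLocal.π_of_affine _ (MorphismProperty.isomorphisms Scheme.{u})
  intro U hU
  change IsIso (Spec.map (𝟙 _))
  infer_instance

theorem fn_congr {A : RelSpec.QCAlg S} {g g' : T ⟶ A.spec} (e : g = g') (hf : g ≫ A.π = f)
    (hf' : g' ≫ A.π = f) (U : S.Opens) : fn g hf U = fn g' hf' U := by
  subst e
  rfl

theorem fn_unit (v : T ⟶ (RelSpec.QCAlg.unit S).spec) (hf : v ≫ (RelSpec.QCAlg.unit S).π = f)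
    (U : S.Opens) (x : Γ(S, U)) : fn v hf U x = f.app U x := str_fn v hf U x

variable {E : S.Modules} {A A1 : RelSpec.QCAlg S} {j : E ⟶ A.toModule}
  {j1 : Coh.structureModule S ⟶ A1.toModule} {a : Coh.structureModule S ⟶ E}
  {ψ : A1 ⟶ A} {w : Coh.structureModule S ⟶ (RelSpec.QCAlg.unit S).toModule}
  {ε : A1 ⟶ RelSpec.QCAlg.unit S}

/-- The function given by a morphism to the unit algebra. -/
noncomputable def uu (w : Coh.structureModule S ⟶ (RelSpec.QCAlg.unit S).toModule) : Γ(S, ⊤) :=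
  jApp _ _ w ⊤ (one ⊤)

theorem jApp_one (U : S.Opens) : (jApp _ _ w U (one U) : Γ(S, U)) = rs U (uu w) := by
  have h1 : one U = res (Coh.structureModule S) (le_top : U ≤ ⊤) (one ⊤) := (res_one le_top).symm
  rw [h1]
  exact jApp_res _ _ w le_top (one ⊤)

theorem isUnit_uu [IsIso w] : IsUnit (uu w) := by
  let r : Γ(S, ⊤) := (inv w).app ⊤ (1 : Γ(S, ⊤))
  have h1 : w.app ⊤ ((inv w).app ⊤ (1 : Γ(S, ⊤))) = (1 : Γ(S, ⊤)) := by
    have h2 : inv w ≫ w = 𝟙 _ := by simp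
    exact congr(($h2).app ⊤ (1 : Γ(S, ⊤)))
  have h3 : w.app ⊤ (r • one ⊤) = r * uu w := jApp_smul _ _ w ⊤ r (one ⊤)
  have h4 : (r • one ⊤ : Γ(Coh.structureModule S, ⊤)) = (inv w).app ⊤ (1 : Γ(S, ⊤)) :=
    mul_one (M := Γ(S, ⊤)) r
  rw [h4] at h3
  exact IsUnit.of_mul_eq_one_right _ (h3.symm.trans h1)

section cond

variable (hA1 : RelSpec.IsSymAlg (Coh.structureModule S) A1 j1)
  (hψ : j1 ≫ RelSpec.QCAlg.Hom.toModuleMap ψ = a ≫ j)
  (hε : j1 ≫ RelSpec.QCAlg.Hom.toModuleMap ε = w)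

include hψ in
theorem fn_one (g : T ⟶ A.spec) (hf : g ≫ A.π = f)
    (hf' : (g ≫ RelSpec.QCAlg.specMap ψ) ≫ A1.π = f) (U : S.Opens) (hU : IsAffineOpen U) :
    fn (g ≫ RelSpec.QCAlg.specMap ψ) hf' U (jApp _ A1 j1 U (one U)) =
      rs (f ⁻¹ᵁ U) (tau a j g hf) := by
  rw [fn_specMap ψ g hf hf' U hU, rs_tau]
  congr 1
  exact congr(($hψ).app U (one U))

include hε in
theorem fn_one' (v : T ⟶ (RelSpec.QCAlg.unit S).spec)
    (hf : v ≫ (RelSpec.QCAlg.unit S).π = f)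
    (hf' : (v ≫ RelSpec.QCAlg.specMap ε) ≫ A1.π = f) (U : S.Opens) (hU : IsAffineOpen U) :
    fn (v ≫ RelSpec.QCAlg.specMap ε) hf' U (jApp _ A1 j1 U (one U)) =
      rs (f ⁻¹ᵁ U) (f.appTop (uu w)) := by
  rw [fn_specMap ε v hf hf' U hU]
  have h1 : (ε.hom.app (op U)).hom (jApp _ A1 j1 U (one U)) = (rs U (uu w) : Γ(S, U)) :=
    (congr(($hε).app U (one U))).trans (jApp_one U)
  rw [h1]
  refine (fn_unit v hf U _).trans ?_
  rw [Scheme.Hom.app_eq_appLE, appLE_rs]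

include hA1 hψ hε in
/-- Points of the affine bundle. -/
theorem comp_eq_iff (g : T ⟶ A.spec) (hf : g ≫ A.π = f)
    (v : T ⟶ (RelSpec.QCAlg.unit S).spec) (hv : v ≫ (RelSpec.QCAlg.unit S).π = f) :
    g ≫ RelSpec.QCAlg.specMap ψ = v ≫ RelSpec.QCAlg.specMap ε ↔
      tau a j g hf = f.appTop (uu w) := by
  have hg' : (g ≫ RelSpec.QCAlg.specMap ψ) ≫ A1.π = f := by
    rw [Category.assoc, RelSpec.QCAlg.specMap_π, hf]
  have hv' : (v ≫ RelSpec.QCAlg.specMap ε) ≫ A1.π = f := by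
    rw [Category.assoc, RelSpec.QCAlg.specMap_π, hv]
  constructor
  · intro h
    refine eq_of_rs f fun U hU => ?_
    rw [← fn_one hψ g hf hg' U hU, ← fn_one' hε v hv hv' U hU, fn_congr h hg' hv']
  · intro h
    refine ext (Groth.Agent.Fdesc.StructMod.isQCoh_structureModule S) hA1 hg' hv' fun U hU e => ?_
    have he : e = (ofFun.symm e : Γ(S, U)) • one U := by
      have := ofFun_eq_smul (ofFun.symm e)
      rwa [AddEquiv.apply_symm_apply] at this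
    rw [he, jApp_smul, map_mul, map_mul, str_fn, str_fn, fn_one hψ g hf hg' U hU,
      fn_one' hε v hv hv' U hU, h]

end cond

theorem tau_scale {g g' : T ⟶ A.spec} (hf : g ≫ A.π = f) (hf' : g' ≫ A.π = f) {c : Γ(T, ⊤)}
    (h : ∀ (U : S.Opens), IsAffineOpen U → ∀ e : Γ(E, U),
      fn g' hf' U (jApp E A j U e) = rs (f ⁻¹ᵁ U) c * fn g hf U (jApp E A j U e)) :
    tau a j g' hf' = c * tau a j g hf := by
  refine eq_of_rs f fun U hU => ?_
  rw [rs_tau, h U hU, map_mul, rs_tau]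

theorem isUnit_ι_appTop {X : Scheme.{u}} (t : Γ(X, ⊤)) {W : X.Opens} (hW : W = X.basicOpen t) :
    IsUnit (W.ι.appTop t) := by
  subst hW
  have h1 : IsUnit (X.presheaf.map (homOfLE (X.basicOpen_le t)).op t) :=
    X.toRingedSpace.isUnit_res_basicOpen t
  have h2 : (X.basicOpen t).ι ''ᵁ ⊤ ≤ X.basicOpen t := by
    rw [Scheme.Opens.ι_image_top]
  have h3 := h1.map (X.presheaf.map (homOfLE h2).op).hom
  rw [Scheme.Opens.ι_appTop]
  have h4 : X.presheaf.map (homOfLE (X.basicOpen_le t)).op ≫ X.presheaf.map (homOfLE h2).op =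
      X.presheaf.map (homOfLE (le_top : (X.basicOpen t).ι ''ᵁ ⊤ ≤ ⊤)).op := by
    rw [← Functor.map_comp]
    rfl
  have h5 := congr(($h4).hom t)
  exact h5 ▸ h3

section main

variable (hE : Coh.IsQCoh E) (hA : RelSpec.IsSymAlg E A j)
  (hA1 : RelSpec.IsSymAlg (Coh.structureModule S) A1 j1)
  (hψ : j1 ≫ RelSpec.QCAlg.Hom.toModuleMap ψ = a ≫ j)
  (hε : j1 ≫ RelSpec.QCAlg.Hom.toModuleMap ε = w)

theorem mono_specMap_ε : Mono (RelSpec.QCAlg.specMap ε) := by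
  have := isIso_unit_π (S := S)
  have h : RelSpec.QCAlg.specMap ε ≫ A1.π = (RelSpec.QCAlg.unit S).π := RelSpec.QCAlg.specMap_π ε
  have : Mono (RelSpec.QCAlg.specMap ε ≫ A1.π) := by
    rw [h]
    infer_instance
  exact mono_of_mono _ A1.π

include hE hA hA1 hψ hε in
/-- **The complement of the zero locus of `t` is a `𝔾_m`-bundle over the affine bundle.** -/
theorem exists_rho [IsIso w] {W : A.spec.Opens}
    (hW : W = A.spec.basicOpen (tau a j (𝟙 A.spec) (Category.id_comp A.π))) :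
    ∃ (N : (𝔸(ULift.{u} (Fin 1); pullback (RelSpec.QCAlg.specMap ψ) (RelSpec.QCAlg.specMap ε))).Opens)
      (r : (W : Scheme.{u}) ⟶ (N : Scheme.{u})), IsIso r ∧
      (∀ b : ↥(pullback (RelSpec.QCAlg.specMap ψ) (RelSpec.QCAlg.specMap ε)), ∃ x : N,
        (𝔸(ULift.{u} (Fin 1); pullback (RelSpec.QCAlg.specMap ψ) (RelSpec.QCAlg.specMap ε)) ↘
        (pullback (RelSpec.QCAlg.specMap ψ) (RelSpec.QCAlg.specMap ε))) (N.ι x) = b) ∧
      (r ≫ N.ι ≫ (𝔸(ULift.{u} (Fin 1); pullback (RelSpec.QCAlg.specMap ψ) (RelSpec.QCAlg.specMap ε)) ↘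
        (pullback (RelSpec.QCAlg.specMap ψ) (RelSpec.QCAlg.specMap ε)))) ≫
        pullback.fst _ _ ≫ A.π = W.ι ≫ A.π := by
  let B := pullback (RelSpec.QCAlg.specMap ψ) (RelSpec.QCAlg.specMap ε)
  let gB : B ⟶ A.spec := pullback.fst _ _
  let vB : B ⟶ (RelSpec.QCAlg.unit S).spec := pullback.snd _ _
  have hB : gB ≫ RelSpec.QCAlg.specMap ψ = vB ≫ RelSpec.QCAlg.specMap ε := pullback.condition
  have hvB : vB ≫ (RelSpec.QCAlg.unit S).π = gB ≫ A.π := by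
    rw [← RelSpec.QCAlg.specMap_π ε, ← Category.assoc, ← hB, Category.assoc,
      RelSpec.QCAlg.specMap_π]
  have tB : tau a j gB rfl = (gB ≫ A.π).appTop (uu w) :=
    (comp_eq_iff hA1 hψ hε gB rfl vB hvB).1 hB
  have hmε := mono_specMap_ε (ε := ε)
  have hmono : Mono gB := inferInstanceAs (Mono (pullback.fst _ _))
  have hiso := isIso_unit_π (S := S)
  have hu : ∀ {T : Scheme.{u}} (f : T ⟶ S), IsUnit (f.appTop (uu w)) := fun f =>
    isUnit_uu.map f.appTop.hom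
  -- the functions on `W`
  let τ := tau a j (𝟙 A.spec) (Category.id_comp A.π)
  have hτW : IsUnit (W.ι.appTop τ) := isUnit_ι_appTop τ hW
  have tW : tau a j W.ι rfl = W.ι.appTop τ := by
    rw [← tau_comp a W.ι (𝟙 A.spec) (Category.id_comp A.π) (f' := W.ι ≫ A.π)
      (by rw [Category.comp_id])]
    exact tau_congr a (Category.comp_id _).symm _ _
  obtain ⟨c1, hc1⟩ : ∃ c1, c1 * W.ι.appTop τ = (W.ι ≫ A.π).appTop (uu w) := by
    obtain ⟨y, hy⟩ := hτW.exists_left_inv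
    exact ⟨(W.ι ≫ A.π).appTop (uu w) * y, by rw [mul_assoc, hy, mul_one]⟩
  obtain ⟨c2, hc2⟩ : ∃ c2, c2 * (W.ι ≫ A.π).appTop (uu w) = W.ι.appTop τ := by
    obtain ⟨y, hy⟩ := (hu (W.ι ≫ A.π)).exists_left_inv
    exact ⟨W.ι.appTop τ * y, by rw [mul_assoc, hy, mul_one]⟩
  have hc12 : c2 * c1 = 1 := by
    apply hτW.mul_right_cancel
    rw [mul_assoc, hc1, hc2, one_mul]
  obtain ⟨g1, hg1, h1⟩ := exists_scale hE hA W.ι rfl c1
  have t1 : tau a j g1 hg1 = (W.ι ≫ A.π).appTop (uu w) := by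
    rw [tau_scale rfl hg1 h1, tW, hc1]
  let v1 : (W : Scheme.{u}) ⟶ (RelSpec.QCAlg.unit S).spec :=
    (W.ι ≫ A.π) ≫ inv (RelSpec.QCAlg.unit S).π
  have hv1 : v1 ≫ (RelSpec.QCAlg.unit S).π = W.ι ≫ A.π := by
    rw [Category.assoc, IsIso.inv_hom_id, Category.comp_id]
  let ρ : (W : Scheme.{u}) ⟶ B := pullback.lift g1 v1
    ((comp_eq_iff hA1 hψ hε g1 hg1 v1 hv1).2 t1)
  have hρ : ρ ≫ gB = g1 := pullback.lift_fst _ _ _
  -- the functions on the affine line over `B`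
  let N0 := 𝔸(ULift.{u} (Fin 1); B)
  let q : N0 ⟶ B := N0 ↘ B
  let cc : Γ(N0, ⊤) := AffineSpace.coord B ⟨0⟩
  obtain ⟨κ, hκ, h2⟩ := exists_scale hE hA (q ≫ gB) rfl cc
  have tκ : tau a j κ hκ = cc * ((q ≫ gB) ≫ A.π).appTop (uu w) := by
    rw [tau_scale rfl hκ h2, tau_comp a q gB rfl rfl, tB]
    rfl
  have tκ' : κ.appTop τ = tau a j κ hκ := by
    rw [← tau_comp a κ (𝟙 A.spec) (Category.id_comp A.π) (f' := (q ≫ gB) ≫ A.π)
      (by rw [Category.comp_id, hκ])]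
    exact tau_congr a (Category.comp_id _) _ _
  let N := κ ⁻¹ᵁ W
  let κ' : (N : Scheme.{u}) ⟶ (W : Scheme.{u}) := κ ∣_ W
  have hκ' : κ' ≫ W.ι = N.ι ≫ κ := morphismRestrict_ι κ W
  let r0 : (W : Scheme.{u}) ⟶ N0 := AffineSpace.homOfVector ρ (fun _ => c2)
  have hr0 : r0 ≫ q = ρ := AffineSpace.homOfVector_over _ _
  have hr0c : r0.appTop cc = c2 := AffineSpace.homOfVector_appTop_coord _ _ _
  -- first identity
  have i1 : r0 ≫ κ = W.ι := by
    have hf : (r0 ≫ κ) ≫ A.π = W.ι ≫ A.π := by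
      rw [Category.assoc, hκ, ← Category.assoc, ← Category.assoc, hr0, hρ, hg1]
    refine ext hE hA hf rfl fun U hU e => ?_
    have hle : (W.ι ≫ A.π) ⁻¹ᵁ U ≤ r0 ⁻¹ᵁ (((q ≫ gB) ≫ A.π) ⁻¹ᵁ U) := by
      have e1 : (W.ι ≫ A.π) = r0 ≫ ((q ≫ gB) ≫ A.π) := by rw [← hf, Category.assoc, hκ]
      rw [e1]
      exact le_rfl
    have hfq : (r0 ≫ q ≫ gB) ≫ A.π = W.ι ≫ A.π := by
      rw [← Category.assoc, hr0, hρ, hg1]
    rw [fn_comp r0 κ hκ hf U hle, h2 U hU, map_mul, appLE_rs, hr0c,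
      ← fn_comp r0 (q ≫ gB) rfl hfq U hle, fn_congr (by rw [← Category.assoc, hr0, hρ]) hfq hg1,
      h1 U hU, ← mul_assoc, ← map_mul, hc12, map_one, one_mul]
  have hκτ : κ'.appTop (W.ι.appTop τ) = N.ι.appTop (tau a j κ hκ) := by
    have e1 : W.ι.appTop ≫ κ'.appTop = κ.appTop ≫ N.ι.appTop := by
      rw [← Scheme.Hom.comp_appTop, hκ', Scheme.Hom.comp_appTop]
    rw [← tκ']
    exact congr(($e1).hom τ)
  -- the unit on `N`
  have hπ' : κ' ≫ W.ι ≫ A.π = N.ι ≫ (q ≫ gB) ≫ A.π := by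
    rw [← Category.assoc, hκ', Category.assoc, hκ]
  have hcu : κ'.appTop ((W.ι ≫ A.π).appTop (uu w)) =
      N.ι.appTop (((q ≫ gB) ≫ A.π).appTop (uu w)) := by
    have e1 : (W.ι ≫ A.π).appTop ≫ κ'.appTop = ((q ≫ gB) ≫ A.π).appTop ≫ N.ι.appTop := by
      rw [← Scheme.Hom.comp_appTop, hπ', ← Scheme.Hom.comp_appTop]
    exact congr(($e1).hom (uu w))
  have huN : IsUnit (N.ι.appTop (((q ≫ gB) ≫ A.π).appTop (uu w))) :=
    (hu _).map N.ι.appTop.hom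
  have hc1' : κ'.appTop c1 * N.ι.appTop cc = 1 := by
    apply huN.mul_right_cancel
    have e1 := congrArg (fun z => κ'.appTop z) hc1
    simp only [map_mul] at e1
    rw [hκτ, tκ, map_mul, hcu, ← mul_assoc] at e1
    rw [e1, one_mul]
  have hc2' : κ'.appTop c2 = N.ι.appTop cc := by
    apply huN.mul_right_cancel
    have e1 := congrArg (fun z => κ'.appTop z) hc2
    simp only [map_mul] at e1
    rw [hκτ, tκ, map_mul, hcu] at e1
    exact e1
  -- second identity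
  have i2 : κ' ≫ r0 = N.ι := by
    apply AffineSpace.hom_ext
    · change (κ' ≫ r0) ≫ q = N.ι ≫ q
      rw [Category.assoc, hr0, ← cancel_mono gB, Category.assoc, hρ, Category.assoc]
      have hf : (κ' ≫ g1) ≫ A.π = N.ι ≫ (q ≫ gB) ≫ A.π := by
        rw [Category.assoc, hg1, hπ']
      have hf2 : (N.ι ≫ q ≫ gB) ≫ A.π = N.ι ≫ (q ≫ gB) ≫ A.π := Category.assoc _ _ _
      refine ext hE hA hf hf2 fun U hU e => ?_
      have hle : (N.ι ≫ (q ≫ gB) ≫ A.π) ⁻¹ᵁ U ≤ κ' ⁻¹ᵁ ((W.ι ≫ A.π) ⁻¹ᵁ U) := by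
        rw [← hπ']
        exact le_rfl
      have hle2 : (N.ι ≫ (q ≫ gB) ≫ A.π) ⁻¹ᵁ U ≤ N.ι ⁻¹ᵁ (((q ≫ gB) ≫ A.π) ⁻¹ᵁ U) := le_rfl
      have hf3 : (κ' ≫ W.ι) ≫ A.π = N.ι ≫ (q ≫ gB) ≫ A.π := by rw [Category.assoc, hπ']
      have hf4 : (N.ι ≫ κ) ≫ A.π = N.ι ≫ (q ≫ gB) ≫ A.π := by rw [Category.assoc, hκ]
      rw [fn_comp κ' g1 hg1 hf U hle, h1 U hU, map_mul, appLE_rs,
        ← fn_comp κ' W.ι rfl hf3 U hle, fn_congr hκ' hf3 hf4, fn_comp N.ι κ hκ hf4 U hle2,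
        h2 U hU, map_mul, appLE_rs, ← mul_assoc, ← map_mul, hc1', map_one, one_mul,
        ← fn_comp N.ι (q ≫ gB) rfl hf2 U hle2]
    · intro i
      obtain rfl : i = ⟨0⟩ := Subsingleton.elim _ _
      have e1 : (κ' ≫ r0).appTop = r0.appTop ≫ κ'.appTop := Scheme.Hom.comp_appTop _ _
      rw [e1]
      change κ'.appTop (r0.appTop cc) = N.ι.appTop cc
      rw [hr0c, hc2']
  -- the inverse
  have hle : Set.range r0 ⊆ Set.range N.ι := by
    rw [Scheme.Opens.range_ι]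
    rintro _ ⟨x, rfl⟩
    change κ (r0 x) ∈ W
    have e1 : κ (r0 x) = W.ι x := by
      rw [← Scheme.Hom.comp_apply, i1]
    rw [e1]
    exact x.2
  let r : (W : Scheme.{u}) ⟶ (N : Scheme.{u}) := IsOpenImmersion.lift N.ι r0 hle
  have hr : r ≫ N.ι = r0 := IsOpenImmersion.lift_fac _ _ _
  have hr1 : r ≫ κ' = 𝟙 _ := by
    rw [← cancel_mono W.ι, Category.assoc, hκ', ← Category.assoc, hr, i1, Category.id_comp]
  have hr2 : κ' ≫ r = 𝟙 _ := by
    rw [← cancel_mono N.ι, Category.assoc, hr, i2, Category.id_comp]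
  -- a section
  let σ : B ⟶ N0 := AffineSpace.homOfVector (𝟙 B) (fun _ => 1)
  have hσ : σ ≫ q = 𝟙 B := AffineSpace.homOfVector_over _ _
  have hσc : σ.appTop cc = 1 := AffineSpace.homOfVector_appTop_coord _ _ _
  have hσκ : σ ≫ κ = gB := by
    have hf : (σ ≫ κ) ≫ A.π = gB ≫ A.π := by
      rw [Category.assoc, hκ, ← Category.assoc, ← Category.assoc, hσ, Category.id_comp]
    refine ext hE hA hf rfl fun U hU e => ?_
    have hle : (gB ≫ A.π) ⁻¹ᵁ U ≤ σ ⁻¹ᵁ (((q ≫ gB) ≫ A.π) ⁻¹ᵁ U) := by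
      have e1 : (gB ≫ A.π) = σ ≫ ((q ≫ gB) ≫ A.π) := by rw [← hf, Category.assoc, hκ]
      rw [e1]
      exact le_rfl
    have hfq : (σ ≫ q ≫ gB) ≫ A.π = gB ≫ A.π := by
      rw [← Category.assoc, hσ, Category.id_comp]
    rw [fn_comp σ κ hκ hf U hle, h2 U hU, map_mul, appLE_rs, hσc, map_one, one_mul,
      ← fn_comp σ (q ≫ gB) rfl hfq U hle,
      fn_congr (by rw [← Category.assoc, hσ, Category.id_comp]) hfq rfl]
  have hmem : ∀ b : B, gB b ∈ W := by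
    intro b
    have e1 : gB ⁻¹ᵁ W = ⊤ := by
      have e2 : gB.appTop τ = tau a j gB rfl := by
        rw [← tau_comp a gB (𝟙 A.spec) (Category.id_comp A.π) (f' := gB ≫ A.π)
          (by rw [Category.comp_id])]
        exact tau_congr a (Category.comp_id _) _ _
      rw [hW, Scheme.preimage_basicOpen_top]
      refine Scheme.basicOpen_of_isUnit _ ?_
      change IsUnit (gB.appTop τ)
      rw [e2, tB]
      exact hu _
    have e3 : b ∈ gB ⁻¹ᵁ W := by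
      rw [e1]
      trivial
    exact e3
  refine ⟨N, r, ⟨κ', hr1, hr2⟩, fun b => ?_, ?_⟩
  · have e1 : σ b ∈ N := by
      change κ (σ b) ∈ W
      have e2 : κ (σ b) = gB b := by rw [← Scheme.Hom.comp_apply, hσκ]
      rw [e2]
      exact hmem b
    refine ⟨⟨σ b, e1⟩, ?_⟩
    change q (σ b) = b
    rw [← Scheme.Hom.comp_apply, hσ]
    rfl
  change (r ≫ N.ι ≫ q) ≫ gB ≫ A.π = W.ι ≫ A.π
  rw [← Category.assoc r, hr, hr0, ← Category.assoc, hρ, hg1]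

end main

end K305.VBAffBun
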