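import Groth.Agent.Cyc.K305.VBAff
import Groth.Agent.Bivar.K930.Clopen
import Groth.Agent.Krr.H495.Rank
import Groth.Agent.Synt.K561.ConFree
import Groth.Agent.Cyc.K309.Base
import Groth.Agent.Cyc.K309.Bc

/-!
# Sub-bundles with trivial quotient

`ps_eq_zero`: for `0 ⟶ O ⟶ E ⟶ F ⟶ 0` the pushforward along `V(F) ⟶ V(E)` is zero (constant rank);
`ratEquivZero`: the same for locally constant rank.
-/

set_option autoImplicit false
universe u

open CategoryTheory CategoryTheory.Limits AlgebraicGeometry Opposite TopologicalSpace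

namespace K305.VBTriv

open Cyc K308.Grp K36.SymAlg K305.VBLoc K305.VBInj K305.VBCap K305.VBCap.VB K305.VBAff
open Groth.Agent.CycB Groth.Agent.CycB.DivFun

variable {S : Scheme.{u}} {δS : S → ℤ} {E F L : S.Modules} {n : ℕ}

theorem C1_structureModule (hS : IsSetup S δS) : C1 δS (Coh.structureModule S) = 0 := by
  rw [C1_eq hS (K305.StructCap.isInvertible_structureModule S)]
  ext a
  obtain ⟨α, rfl⟩ := cl_surjective δS a
  have h := c1_cl hS (K305.StructCap.isInvertible_structureModule S) (α := α) (γ := 0)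
    (s := fun ξ => C1Basic.cl _ ξ (K305.StructCap.one ξ))
    (fun ξ _ => C1Basic.cl_ne_zero (K305.StructCap.isGen_one ξ))
    (by rw [K305.StructCap.c1CapFun_one]; rfl)
  rw [h, map_zero]
  rfl

/-- The pushforward along a sub-bundle with trivial quotient is zero (constant rank). -/
theorem ps_eq_zero (V : VB S δS E (n + 1)) (W : VB S δS F n) (a : L ⟶ E) (b : E ⟶ F)
    (hab : a ≫ b = 0) (hex : (ShortComplex.mk a b hab).ShortExact)
    (e : L ≅ Coh.structureModule S)
    (φ : V.A ⟶ W.A) (hφ : V.j ≫ RelSpec.QCAlg.Hom.toModuleMap φ = b ≫ W.j)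
    [IsProper (RelSpec.QCAlg.specMap φ)] {k : ℤ} {α : AlgebraicCycle W.A.spec ℤ}
    (hα : α ∈ Zk W.A.spec W.δ k) : ps φ (cl W.δ α) = 0 := by
  have hL : PicF.IsInvertible L :=
    K476.HomSh6.isInvertible_of_iso e.symm (K305.StructCap.isInvertible_structureModule S)
  obtain ⟨β, -, h⟩ := exists_pl W (k - n) (β := α) (by rwa [sub_add_cancel])
  rw [← h, ps_pl_one V W a b hab hex hL φ hφ, C1_dl V.base hL, C1_congr δS e,
    C1_structureModule V.base]
  change V.pl (-0) = 0
  rw [neg_zero, map_zero]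

/-- The pushforward along a sub-bundle with trivial quotient is zero. -/
theorem ratEquivZero (hS : IsSetup S δS) (a : L ⟶ E) (b : E ⟶ F)
    (hab : a ≫ b = 0) (hex : (ShortComplex.mk a b hab).ShortExact)
    (e : L ≅ Coh.structureModule S) (hqE : Coh.IsQCoh E) (hqF : Coh.IsQCoh F)
    (hF : FlatMod.IsFinLocFree F) {A B : RelSpec.QCAlg S}
    {j : E ⟶ A.toModule} {j' : F ⟶ B.toModule} (hA : RelSpec.IsSymAlg E A j)
    (hB : RelSpec.IsSymAlg F B j') {φ : A ⟶ B}
    (hφ : j ≫ RelSpec.QCAlg.Hom.toModuleMap φ = b ≫ j')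
    [QuasiCompact (RelSpec.QCAlg.specMap φ)] {δA : A.spec → ℤ} (hAs : IsSetup A.spec δA)
    (hδA : DeltaCompat A.π δA δS) {δB : B.spec → ℤ} (hBs : IsSetup B.spec δB)
    (hδB : DeltaCompat B.π δB δS) {k : ℤ} {α : AlgebraicCycle B.spec ℤ}
    (hα : α ∈ Zk B.spec δB k) :
    RatEquivZero δA k (AlgebraicCycle.map (RelSpec.QCAlg.specMap φ) δB δA α) := by
  have hepi : Epi b := hex.epi_g
  have hcl : IsClosedImmersion (RelSpec.QCAlg.specMap φ) :=
    K36.SymGeo.isClosedImmersion_specMap hqE hqF b hB φ hφ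
  -- the pieces
  let U : ULift.{u} ℕ → S.Opens := fun r =>
    ⟨{x | Groth.Agent.Krr.H495.Rank.rk F x = r.down},
      (Groth.Agent.Krr.H495.Rank.isLocallyConstant_rk hF).isOpen_fiber r.down⟩
  have hcompat : ∀ r, DeltaCompat (U r).ι (fun u => δS ((U r).ι u)) δS := fun r =>
    K930.PushPull.deltaCompat_stalk (U r).ι
  have hUs : ∀ r, IsSetup (U r : Scheme.{u}) (fun u => δS ((U r).ι u)) := fun r =>
    SetupLft.isSetup_of_deltaCompat (U r).ι hS (hcompat r)
  have hrF : ∀ r, FlatMod.IsFinLocFreeOfRank r.down ((Scheme.Modules.pullback (U r).ι).obj F) := by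
    intro r
    rw [Groth.Agent.Krr.H495.Rank.isFinLocFreeOfRank_iff]
    refine ⟨Groth.Agent.PerfB.FlatPull.isFinLocFree_pullback (U r).ι hF, fun x => ?_⟩
    rw [K561.ConFree.rk_pullback (U r).ι hF]
    exact x.2
  have hexU : ∀ r, ((ShortComplex.mk a b hab).map (Scheme.Modules.pullback (U r).ι)).ShortExact := by
    intro r
    have := Groth.Agent.Sga67.FlatPre.preservesFiniteLimits_pullback (U r).ι
    exact hex.map_of_exact (Scheme.Modules.pullback (U r).ι)
  have eO : ∀ r, Nonempty ((Scheme.Modules.pullback (U r).ι).obj L ≅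
      Coh.structureModule (U r : Scheme.{u})) := by
    intro r
    have := Groth.Agent.Grpsch.PicGrp.isIso_pullOne (U r).ι
    exact ⟨(Scheme.Modules.pullback (U r).ι).mapIso e ≪≫ (@asIso _ _ _ _ _ this).symm⟩
  have hrE : ∀ r, FlatMod.IsFinLocFreeOfRank (r.down + 1)
      ((Scheme.Modules.pullback (U r).ι).obj E) := by
    intro r
    obtain ⟨e'⟩ := eO r
    rw [add_comm]
    refine Groth.Agent.Krr.H487.KerRank.isFinLocFreeOfRank_mid (hexU r) ?_ (hrF r)
    exact Groth.Agent.Ega2.QCohLocal.isFinLocFreeOfRank_one_iff.2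
      (K476.HomSh6.isInvertible_of_iso e'.symm (K305.StructCap.isInvertible_structureModule _))
  have V : ∀ r, VB (U r : Scheme.{u}) (fun u => δS ((U r).ι u))
      ((Scheme.Modules.pullback (U r).ι).obj E) (r.down + 1) :=
    fun r => (VB.nonempty (hUs r) (hrE r)).some
  have W : ∀ r, VB (U r : Scheme.{u}) (fun u => δS ((U r).ι u))
      ((Scheme.Modules.pullback (U r).ι).obj F) r.down :=
    fun r => (VB.nonempty (hUs r) (hrF r)).some
  choose v w pv pw psq using fun r => VBBC2.exists_isPullback (U r).ι hqE hqF hA hB (V r).sym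
    (W r).sym hφ ((V r).j_mor (W r) ((Scheme.Modules.pullback (U r).ι).map b))
  have hv : ∀ r, IsOpenImmersion (v r) := fun r =>
    MorphismProperty.of_isPullback (P := @IsOpenImmersion) (pv r).flip inferInstance
  have hw : ∀ r, IsOpenImmersion (w r) := fun r =>
    MorphismProperty.of_isPullback (P := @IsOpenImmersion) (pw r).flip inferInstance
  have hepiU : ∀ r, Epi ((Scheme.Modules.pullback (U r).ι).map b) := fun r => (hexU r).epi_g
  have hcv : ∀ r, DeltaCompat (v r) (V r).δ δA := fun r => by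
    have h1 : DeltaCompat (v r ≫ A.π) (V r).δ δS := by
      rw [(pv r).w]
      exact RelDim.deltaCompat_comp (V r).compat (hcompat r)
    exact deltaCompat_of_comp' (v r) A.π h1 hδA
  have hcw : ∀ r, DeltaCompat (w r) (W r).δ δB := fun r => by
    have h1 : DeltaCompat (w r ≫ B.π) (W r).δ δS := by
      rw [(pw r).w]
      exact RelDim.deltaCompat_comp (W r).compat (hcompat r)
    exact deltaCompat_of_comp' (w r) B.π h1 hδB
  have hsv : ∀ r x, (V r).δ x = δA (v r x) := fun r => deltaCompat_eq_open (v r) (hcv r)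
  have hsw : ∀ r x, (W r).δ x = δB (w r x) := fun r => deltaCompat_eq_open (w r) (hcw r)
  have hφδ : DeltaCompat (RelSpec.QCAlg.specMap φ) δB δA := by
    refine deltaCompat_of_comp' _ A.π ?_ hδA
    rw [RelSpec.QCAlg.specMap_π]
    exact hδB
  have hmem := K309.Base.map_mem_Zk (δX := δB) (δY := δA) (RelSpec.QCAlg.specMap φ) hα
  refine K930.Clopen.ratEquivZero_of_clopen v ?_ ?_ _ (fun r => RatTransport.comapCycle (v r)
    (v r).isOpenEmbedding.injective (AlgebraicCycle.map (RelSpec.QCAlg.specMap φ) δB δA α))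
    (fun r x => rfl) ?_
  · intro r s x y hxy
    have h1 : (U r).ι ((V r).A.π x) = (U s).ι ((V s).A.π y) := by
      have h2 := congrArg A.π hxy
      rw [← Scheme.Hom.comp_apply, ← Scheme.Hom.comp_apply, (pv r).w, (pv s).w,
        Scheme.Hom.comp_apply, Scheme.Hom.comp_apply] at h2
      exact h2
    have h2 : Groth.Agent.Krr.H495.Rank.rk F ((U r).ι ((V r).A.π x)) = r.down :=
      ((V r).A.π x).2
    have h3 : Groth.Agent.Krr.H495.Rank.rk F ((U s).ι ((V s).A.π y)) = s.down :=
      ((V s).A.π y).2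
    rw [h1, h3] at h2
    exact ULift.ext _ _ h2.symm
  · intro x
    let r : ULift.{u} ℕ := ⟨Groth.Agent.Krr.H495.Rank.rk F (A.π x)⟩
    have hx : A.π x ∈ U r := rfl
    have h1 : x ∈ Set.range (v r) := by
      rw [K309.Bc.range_of_isPullback (pv r)]
      exact ⟨⟨A.π x, hx⟩, rfl⟩
    obtain ⟨z, hz⟩ := h1
    exact ⟨r, z, hz⟩
  · intro r
    have hsh : Shift (v r) (V r).δ δA 0 := shift_open (v r) (hsv r)
    have hshw : Shift (w r) (W r).δ δB 0 := shift_open (w r) (hsw r)
    obtain ⟨e'⟩ := eO r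
    have hδ' : (V r).δ = fun x => δA (v r x) := funext (hsv r)
    have h1 := K308.Grp.pull_push hBs hAs (W r).setup (V r).setup (psq r).flip hφδ
      (compat_specMap ((V r).mor (W r) ((Scheme.Modules.pullback (U r).ι).map b))) hsh hshw
      (cl δB α)
    have h2 : pull (W r).setup hBs (w r) hshw (cl δB α) = cl (W r).δ (pullCycle (W r).setup (w r) hshw α) :=
      pull_cl_pullCycle _ _ _ _ _
    have h3 : pullCycle (W r).setup (w r) hshw α ∈ Zk (W r).A.spec (W r).δ (k + 0) :=
      GenLocFin.pullFun_mem_Zk (w r) hα (coe_pullCycle (W r).setup (w r) hshw α)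
    have h4 := ps_eq_zero (V r) (W r) _ _ _ (hexU r) e'
      ((V r).mor (W r) ((Scheme.Modules.pullback (U r).ι).map b)) ((V r).j_mor (W r) _) h3
    rw [h2] at h1
    have h5 : pull (V r).setup hAs (v r) hsh (push hBs hAs (RelSpec.QCAlg.specMap φ) hφδ
      (cl δB α)) = 0 := h1.trans h4
    rw [push_cl, pull_cl (V r).setup hAs (v r) hsh (β := RatTransport.comapCycle (v r)
      (v r).isOpenEmbedding.injective (AlgebraicCycle.map (RelSpec.QCAlg.specMap φ) δB δA α)) ?_,
      cl_eq_zero_iff (k := k) ?_, hδ'] at h5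
    · exact h5
    · rw [hδ']
      exact RatTransport.comapCycle_mem_Zk _ _ _ _ _ hmem
    · funext x
      rw [pullFun_open (v r) (hsv r)]
      rfl

end K305.VBTriv
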