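import Groth.Agent.Cyc.K305.VBAffBun
import Groth.Agent.Cyc.K305.VBTriv
import Groth.Agent.Sga4h.AffProj640
import Groth.Agent.Flat2F.FlatComp
import Groth.Agent.Cyc.K306.PtCyc

/-!
# Injectivity of the flat pullback to an affine bundle
-/

set_option autoImplicit false
universe u

open CategoryTheory CategoryTheory.Limits AlgebraicGeometry Opposite TopologicalSpace

namespace K305.VBAffMain

open Cyc K308.Grp K36.SymAlg K36.QSpec K305.VBLoc K305.VBInj K305.VBCap K305.VBCap.VB K305.VBAff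
open K305.VBPt K305.VBScale K305.VBAffBun Groth.Agent.Fdesc.LocGen
open Groth.Agent.CycB Groth.Agent.CycB.DivFun

variable {S : Scheme.{u}} {E F : S.Modules} {A B : RelSpec.QCAlg S} {j : E ⟶ A.toModule}
  {k : F ⟶ B.toModule} {a : Coh.structureModule S ⟶ E} {b : E ⟶ F} {φ : A ⟶ B}

/-- The range of the sub-bundle. -/
theorem range_specMap [IsClosedImmersion (RelSpec.QCAlg.specMap φ)]
    (hE : Coh.IsQCoh E) (hF : Coh.IsQCoh F)
    (hA : RelSpec.IsSymAlg E A j) (hB : RelSpec.IsSymAlg F B k)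
    (hφ : j ≫ RelSpec.QCAlg.Hom.toModuleMap φ = b ≫ k) (hab : a ≫ b = 0)
    (hS : (ShortComplex.mk a b hab).ShortExact) :
    Set.range (RelSpec.QCAlg.specMap φ) =
      ((A.spec.basicOpen (tau a j (𝟙 A.spec) (Category.id_comp A.π)) : A.spec.Opens) :
        Set A.spec)ᶜ := by
  ext x
  obtain ⟨U, hU, hx, -⟩ := (Opens.isBasis_iff_nbhd.mp S.isBasis_affineOpens)
    (show A.π x ∈ (⊤ : S.Opens) from trivial)
  let P : A.spec.affineOpens := ⟨A.π ⁻¹ᵁ U, hU.preimage A.π⟩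
  have hxP : x ∈ P.1 := hx
  have h1 : x ∈ Set.range (RelSpec.QCAlg.specMap φ) ↔
      x ∈ (RelSpec.QCAlg.specMap φ).ker.support := by
    rw [← SetLike.mem_coe, Scheme.Hom.support_ker]
    exact (Set.ext_iff.1 ((RelSpec.QCAlg.specMap φ).isClosedEmbedding.isClosed_range.closure_eq)
      x).symm
  rw [h1, Scheme.IdealSheafData.mem_support_iff_of_mem hxP, Scheme.mem_zeroLocus_iff]
  have h2 : thetaApp A U (jApp E A j U (sec a U)) =
      rs P.1 (tau a j (𝟙 A.spec) (Category.id_comp A.π)) := by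
    have h3 := rs_tau a (𝟙 A.spec) (Category.id_comp A.π) U (j := j)
    refine Eq.trans ?_ h3.symm
    have h4 : fn (𝟙 A.spec) (Category.id_comp A.π) U = thetaApp A U := by
      rw [fn]
      have h5 : (𝟙 A.spec : A.spec ⟶ A.spec).appLE (A.π ⁻¹ᵁ U) (A.π ⁻¹ᵁ U) le_rfl = 𝟙 _ :=
        (Scheme.Hom.appLE_eq_app (f := 𝟙 A.spec) (U := A.π ⁻¹ᵁ U)).trans (Scheme.Hom.id_app _)
      exact (congrArg (fun z => thetaApp A U ≫ z) h5).trans (Category.comp_id _)
    rw [h4]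
  have hgen : IsGen (one U : Γ(Coh.structureModule S, U)) := isGen_one U
  have hker : ∀ y : Γ(A.spec, P.1), y ∈ (RelSpec.QCAlg.specMap φ).ker.ideal P ↔
      y ∈ Ideal.span {rs P.1 (tau a j (𝟙 A.spec) (Category.id_comp A.π))} := by
    intro y
    rw [Scheme.Hom.ker_apply]
    refine (ker_app_specMap φ U hU y).trans ?_
    rw [K305.VBSub.ker_ψ hE hF hA hB hφ hab hS hU hgen, ← h2]
    let σ := RingEquiv.ofBijective _ (K305.VBSub.gammaAff_bijective (A := A) U hU)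
    have h5 : (Ideal.span {thetaApp A U (jApp E A j U (sec a U))}).map σ.toRingHom =
        Ideal.span {jApp E A j U (a.app U (one U))} := by
      rw [Ideal.map_span, Set.image_singleton]
      congr 2
      exact K305.VBSub.thetaApp_gammaAff_apply U hU _
    rw [← h5]
    constructor
    · intro hy
      rw [Ideal.mem_map_iff_of_surjective σ.toRingHom σ.surjective] at hy
      obtain ⟨z, hz, hzy⟩ := hy
      rwa [← σ.injective hzy]
    · intro hy
      exact Ideal.mem_map_of_mem σ.toRingHom hy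
  have hbo : A.spec.basicOpen (rs P.1 (tau a j (𝟙 A.spec) (Category.id_comp A.π))) =
      P.1 ⊓ A.spec.basicOpen (tau a j (𝟙 A.spec) (Category.id_comp A.π)) :=
    Scheme.basicOpen_res _ _ _
  constructor
  · intro h hx'
    refine h _ ((hker _).2 (Ideal.subset_span rfl)) ?_
    rw [hbo]
    exact ⟨hxP, hx'⟩
  · intro h y hy hxy
    obtain ⟨c, rfl⟩ := Ideal.mem_span_singleton.1 ((hker y).1 hy)
    rw [Scheme.basicOpen_mul, hbo] at hxy
    exact h hxy.1.2

/-- A relative-dimension count. -/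
theorem shift_of_comp {X Y Z : Scheme.{u}} {δX : X → ℤ} {δY : Y → ℤ} {δZ : Z → ℤ} {f : X ⟶ Y}
    {g : Y ⟶ Z} [Flat f] [Surjective f] {c d e : ℤ} (hf : Shift f δX δY c)
    (hfg : Shift (f ≫ g) δX δZ e) (he : e = c + d) : Shift g δY δZ d := by
  intro y hy
  obtain ⟨x₀, hx₀⟩ := f.surjective y
  obtain ⟨x, hx, hgen, -⟩ := FlatDiv.exists_fibGen (p := f) x₀
  have hxy : f x = y := hx.trans hx₀
  have h1 : FlatDiv.FibGen (f ≫ g) x := by
    intro x' h2 h3
    have h4 : f x' = y := by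
      refine hy (f x') ?_ ?_
      · rw [← hxy]
        exact h2
      · rw [← hxy]
        exact h3.map f.continuous
    exact hgen x' (h4.trans hxy.symm) h3
  have h5 := hf x hgen
  have h6 := hfg x h1
  have h7 : (f ≫ g) x = g y := by
    rw [← hxy]
    rfl
  rw [hxy] at h5
  rw [h7] at h6
  omega

theorem main {δ : S → ℤ} (hX : IsSetup S δ) (hab : a ≫ b = 0)
    (hex : (ShortComplex.mk a b hab).ShortExact) {n : ℕ}
    (hE : FlatMod.IsFinLocFreeOfRank (n + 1) E) (hF : FlatMod.IsFinLocFreeOfRank n F)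
    (hA : RelSpec.IsSymAlg E A j) {A1 : RelSpec.QCAlg S}
    {j1 : Coh.structureModule S ⟶ A1.toModule}
    (hA1 : RelSpec.IsSymAlg (Coh.structureModule S) A1 j1) {ψ : A1 ⟶ A}
    (hψ : j1 ≫ RelSpec.QCAlg.Hom.toModuleMap ψ = a ≫ j)
    {w : Coh.structureModule S ⟶ (RelSpec.QCAlg.unit S).toModule} [IsIso w]
    {ε : A1 ⟶ RelSpec.QCAlg.unit S} (hε : j1 ≫ RelSpec.QCAlg.Hom.toModuleMap ε = w)
    {δB : ↥(pullback (RelSpec.QCAlg.specMap ψ) (RelSpec.QCAlg.specMap ε)) → ℤ}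
    (hBs : IsSetup (pullback (RelSpec.QCAlg.specMap ψ) (RelSpec.QCAlg.specMap ε)) δB)
    (hδB : DeltaCompat (pullback.fst (RelSpec.QCAlg.specMap ψ) (RelSpec.QCAlg.specMap ε) ≫ A.π)
      δB δ) {l : ℤ} {α : AlgebraicCycle S ℤ} (hα : α ∈ Zk S δ l)
    {γ : AlgebraicCycle (pullback (RelSpec.QCAlg.specMap ψ) (RelSpec.QCAlg.specMap ε)) ℤ}
    (hγ : ⇑γ = pullFun (pullback.fst (RelSpec.QCAlg.specMap ψ) (RelSpec.QCAlg.specMap ε) ≫ A.π)
      δB δ n ⇑α) (h0 : RatEquivZero δB (l + n) γ) : RatEquivZero δ l α := by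
  obtain ⟨δE, hδE⟩ : ∃ δE : A.spec → ℤ, DeltaCompat A.π δE δ := by
    have := locallyOfFiniteType_π (isQCoh_of_rank hE) hA hE
    exact SetupLft.exists_deltaCompat A.π δ
  let V : VB S δ E (n + 1) := ⟨hX, hE, A, j, hA, δE, hδE⟩
  have flA : Flat A.π := V.flat
  have lfA : LocallyOfFiniteType A.π := V.lft
  have hEs : IsSetup A.spec δE := V.setup
  obtain ⟨Wf⟩ := VB.nonempty hX hF
  have hepi : Epi b := hex.epi_g
  let φ : V.A ⟶ Wf.A := V.mor Wf b
  have hcl : IsClosedImmersion (RelSpec.QCAlg.specMap φ) := isClosedImmersion_mor V Wf b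
  have hqE := isQCoh_of_rank hE
  have hqF := isQCoh_of_rank hF
  let B' := pullback (RelSpec.QCAlg.specMap ψ) (RelSpec.QCAlg.specMap ε)
  let gB : B' ⟶ A.spec := pullback.fst _ _
  let W : A.spec.Opens := A.spec.basicOpen (tau a j (𝟙 A.spec) (Category.id_comp A.π))
  obtain ⟨N, r, hr, hsurj, hfac⟩ := exists_rho hqE hA hA1 hψ hε (W := W) rfl
  let q : 𝔸(ULift.{u} (Fin 1); B') ⟶ B' := 𝔸(ULift.{u} (Fin 1); B') ↘ B'
  have hsm : SmoothOfRelativeDimension 1 q := Groth.Agent.Sga4h.AffProj640.smooth_line B'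
  let ρ : (W : Scheme.{u}) ⟶ B' := r ≫ N.ι ≫ q
  have hρ : ρ ≫ gB ≫ A.π = W.ι ≫ A.π := hfac
  have sρ : SmoothOfRelativeDimension (0 + (0 + 1)) ρ :=
    inferInstanceAs (SmoothOfRelativeDimension (0 + (0 + 1)) (r ≫ N.ι ≫ q))
  have s1 : SmoothOfRelativeDimension 1 ρ := by rwa [zero_add, zero_add] at sρ
  have rdρ : HasRelDim ρ 1 := K308.PB.hasRelDim_of_smooth ρ
  have smρ : Smooth ρ := SmoothOfRelativeDimension.smooth 1 ρ
  have flρ : Flat ρ := inferInstance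
  have lfρ : LocallyOfFiniteType ρ := inferInstance
  have suρ : Surjective ρ := by
    refine ⟨fun y => ?_⟩
    obtain ⟨x, hx⟩ := hsurj y
    refine ⟨(inv r) x, ?_⟩
    change q (N.ι (r ((inv r) x))) = y
    rw [← Scheme.Hom.comp_apply (inv r) r, IsIso.inv_hom_id]
    exact hx
  have flWπ : Flat (ρ ≫ gB ≫ A.π) := by
    rw [hρ]
    infer_instance
  have flB : Flat (gB ≫ A.π) :=
    Groth.Agent.Flat2F.FlatComp.flat_of_flat_comp_of_flat_surjective ρ (gB ≫ A.π)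
  -- dimension functions
  let δW : ↥(W : Scheme.{u}) → ℤ := fun x => δE (W.ι x)
  have hδW : DeltaCompat W.ι δW δE := K930.PushPull.deltaCompat_stalk W.ι
  have hWs : IsSetup (W : Scheme.{u}) δW := SetupLft.isSetup_of_deltaCompat W.ι hEs hδW
  have hWX : DeltaCompat (ρ ≫ gB ≫ A.π) δW δ := by
    rw [hρ]
    exact RelDim.deltaCompat_comp hδW hδE
  have hδρ : DeltaCompat ρ δW δB := deltaCompat_of_comp' ρ (gB ≫ A.π) hWX hδB
  have shρ : Shift ρ δW δB ((1 : ℕ) : ℤ) := shift_of_hasRelDim rdρ hδρ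
  have shι : Shift W.ι δW δE 0 := shift_open W.ι fun _ => rfl
  have shWX : Shift (W.ι ≫ A.π) δW δ (0 + ((n + 1 : ℕ) : ℤ)) := shι.comp V.shift
  have shWX' : Shift (ρ ≫ gB ≫ A.π) δW δ (0 + ((n + 1 : ℕ) : ℤ)) := by rwa [hρ]
  have shB : Shift (gB ≫ A.π) δB δ n := shift_of_comp shρ shWX' (by push_cast; ring)
  -- the class on the total space vanishes on `W`
  have e1 : pull hBs hX (gB ≫ A.π) shB (cl δ α) = 0 := by
    rw [pull_cl hBs hX (gB ≫ A.π) shB hγ]
    exact cl_eq_zero_of_ratEquivZero h0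
  have e2 : pull hWs hEs W.ι shι (V.pl (cl δ α)) = 0 := by
    have h1 : V.pl (cl δ α) = pull hEs hX A.π V.shift (cl δ α) := rfl
    rw [h1, pull_pull hWs hEs hX W.ι A.π shι V.shift shWX rfl,
      VBMain.pull_congr hWs hX hρ.symm rfl shWX shWX',
      ← pull_pull hWs hBs hX ρ (gB ≫ A.π) shρ shB shWX' (by push_cast; ring), e1, map_zero]
  -- localization
  let η := pullCycle hEs A.π V.shift α
  have hη : V.pl (cl δ α) = cl δE η := pull_cl_pullCycle _ _ _ _ _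
  have hηZ : η ∈ Zk A.spec δE (l + ((n + 1 : ℕ) : ℤ)) :=
    GenLocFin.pullFun_mem_Zk A.π hα (coe_pullCycle hEs A.π V.shift α)
  let ηW : AlgebraicCycle (W : Scheme.{u}) ℤ :=
    RatTransport.comapCycle W.ι W.ι.isOpenEmbedding.injective η
  have hηW : pull hWs hEs W.ι shι (cl δE η) = cl δW ηW := by
    refine pull_cl hWs hEs W.ι shι ?_
    funext x
    rw [pullFun_open W.ι (fun _ => rfl)]
    rfl
  have hηWZ : ηW ∈ Zk (W : Scheme.{u}) δW (l + ((n + 1 : ℕ) : ℤ)) :=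
    RatTransport.comapCycle_mem_Zk _ _ _ _ _ hηZ
  have e3 : RatEquivZero δW (l + ((n + 1 : ℕ) : ℤ)) ηW := by
    rw [← cl_eq_zero_iff hηWZ, ← hηW, ← hη, e2]
  obtain ⟨ζ, hζZ, hζ0, hζ⟩ := Groth.Agent.S1863.result A.spec δE hEs W _ η 0 hηZ (fun _ _ => rfl)
    ηW 0 (fun _ => rfl) (fun _ => rfl) (DivFun.ratEquiv_zero_iff.2 e3)
  rw [zero_add] at hζ
  have hrange := range_specMap (φ := φ) hqE hqF hA Wf.sym (V.j_mor Wf b) hab hex
  have hζr : ∀ x, x ∉ Set.range (RelSpec.QCAlg.specMap φ) → ζ x = 0 := by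
    intro x hx
    refine hζ0 x ?_
    rw [hrange] at hx
    exact not_not.1 hx
  have hcomp : DeltaCompat (RelSpec.QCAlg.specMap φ) Wf.δ δE := compat_specMap (V := V) φ
  have h5 := K306.PtCyc.map_comapCycle (RelSpec.QCAlg.specMap φ) hcomp hζr
  have hδWf : Wf.δ = fun x => δE (RelSpec.QCAlg.specMap φ x) :=
    K930.PushPull.deltaCompat_eq_comp _ hcomp
  have h6 : RatTransport.comapCycle (RelSpec.QCAlg.specMap φ)
      (RelSpec.QCAlg.specMap φ).isClosedEmbedding.injective ζ ∈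
        Zk Wf.A.spec Wf.δ (l + ((n + 1 : ℕ) : ℤ)) := by
    rw [hδWf]
    exact RatTransport.comapCycle_mem_Zk _ _ _ _ _ hζZ
  have h7 := K305.VBTriv.ps_eq_zero V Wf a b hab hex (Iso.refl _) φ (V.j_mor Wf b) h6
  have h8 : cl δE ζ = 0 := by
    rw [← h5]
    exact h7
  apply V.pl_cl_injective hα
  rw [hη, cl_eq_of_ratEquiv hζ]
  exact h8

end K305.VBAffMain
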