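import Groth.Agent.Cyc.K305.VBCap

/-!
# Push forward along sub-bundles with filtered quotient

`FL Ms K`: `K` is filtered with quotients the members of the list `Ms` of invertible modules;
`chain`: for `0 ⟶ K ⟶ M ⟶ M' ⟶ 0` with `FL Ms K`, `i_* π_{M'}^* x = π_M^*(∏ c_1(L^∨) ∩ x)`.
-/

set_option autoImplicit false
universe u

open CategoryTheory CategoryTheory.Limits AlgebraicGeometry Opposite TopologicalSpace

namespace K305.VBChain

open Cyc K308.Grp K36.SymAlg K305.VBLoc K305.VBInj K305.VBCosec K305.VBCap K305.VBCap.VB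
open Groth.Agent.CycB Groth.Agent.CycB.DivFun
open Groth.Agent.Grpsch.PicGrp

variable {S : Scheme.{u}} {δS : S → ℤ}

/-- Filtrations by invertible sub-bundles with given quotients. -/
def FL : List S.Modules → S.Modules → Prop
  | [], E => IsZero E
  | (L :: Ls), E => ∃ (F : S.Modules) (a : L ⟶ E) (b : E ⟶ F) (hab : a ≫ b = 0),
      (ShortComplex.mk a b hab).ShortExact ∧ PicF.IsInvertible L ∧ FL Ls F

theorem FL.gf {Ls : List S.Modules} {E : S.Modules} (h : FL Ls E) : GF Ls.length E := by
  induction Ls generalizing E with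
  | nil => exact h
  | cons L Ls ih =>
    obtain ⟨F, a, b, hab, hS, hL, hF⟩ := h
    exact ⟨L, F, a, b, hab, hS, hL, ih hF⟩

theorem FL.rank {Ls : List S.Modules} {E : S.Modules} (h : FL Ls E) :
    FlatMod.IsFinLocFreeOfRank Ls.length E := h.gf.isFinLocFreeOfRank

theorem FL.invertible {Ls : List S.Modules} {E : S.Modules} (h : FL Ls E) :
    ∀ L ∈ Ls, PicF.IsInvertible L := by
  induction Ls generalizing E with
  | nil => simp
  | cons L Ls ih =>
    obtain ⟨F, a, b, hab, hS, hL, hF⟩ := h
    intro M hM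
    rcases List.mem_cons.1 hM with rfl | hM
    · exact hL
    · exact ih hF M hM

theorem FL.iso {Ls : List S.Modules} {E F : S.Modules} (h : FL Ls E) (e : E ≅ F) : FL Ls F := by
  induction Ls generalizing E F with
  | nil => exact IsZero.of_iso h e.symm
  | cons L Ls ih =>
    obtain ⟨G, a, b, hab, hS, hL, hG⟩ := h
    refine ⟨G, a ≫ e.hom, e.inv ≫ b, by simp [hab], ?_, hL, hG⟩
    exact ShortComplex.shortExact_of_iso
      (ShortComplex.isoMk (S₁ := ShortComplex.mk a b hab) (Iso.refl _) e (Iso.refl _)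
        (by simp) (by simp)) hS

/-- The dual filtration. -/
theorem FL.dual {Ls : List S.Modules} {E : S.Modules} (h : SF Ls E)
    (hLs : ∀ L ∈ Ls, PicF.IsInvertible L) : FL (Ls.map dl) (dl E) := by
  induction Ls generalizing E with
  | nil => exact isZero_dl h
  | cons L Ls ih =>
    obtain ⟨K, a, b, hab, hS, hK⟩ := h
    have h1 := ih hK (fun N hN => hLs N (List.mem_cons_of_mem _ hN))
    have hKr : FlatMod.IsFinLocFreeOfRank Ls.length K :=
      (GF.of_SF hK fun N hN => hLs N (List.mem_cons_of_mem _ hN)).isFinLocFreeOfRank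
    have hEr : FlatMod.IsFinLocFreeOfRank (L :: Ls).length E :=
      (GF.of_SF (Ls := L :: Ls) ⟨K, a, b, hab, hS, hK⟩ hLs).isFinLocFreeOfRank
    have hL1 : FlatMod.IsFinLocFreeOfRank 1 L :=
      Groth.Agent.Ega2.QCohLocal.isFinLocFreeOfRank_one_iff.2 (hLs L List.mem_cons_self)
    have h2 := Groth.Agent.Sga2.PnHomExact.shortExact_homSC hS
      (isQCoh_of_rank hKr) (isQCoh_of_rank hEr)
      (Groth.Agent.Ega2.QCohLocal.isFinLocFree_of_rank hL1) (Coh.structureModule S)
    exact ⟨_, _, _, _, h2, isInvertible_dl (hLs L List.mem_cons_self), h1⟩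

/-- Dividing out a submodule of the kernel. -/
theorem exists_third {L K K' M M' : S.Modules} (l : L ⟶ K) (q : K ⟶ K') (hlq : l ≫ q = 0)
    (hSK : (ShortComplex.mk l q hlq).ShortExact) (a : K ⟶ M) (b : M ⟶ M') (hab : a ≫ b = 0)
    (hS : (ShortComplex.mk a b hab).ShortExact) :
    ∃ (M₁ : S.Modules) (p : M ⟶ M₁) (a' : K' ⟶ M₁) (b' : M₁ ⟶ M') (hp : (l ≫ a) ≫ p = 0)
      (hab' : a' ≫ b' = 0), (ShortComplex.mk (l ≫ a) p hp).ShortExact ∧
      (ShortComplex.mk a' b' hab').ShortExact ∧ p ≫ b' = b := by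
  have := hS.mono_f
  have := hS.epi_g
  have := hSK.mono_f
  have := hSK.epi_g
  have hml : Mono (l ≫ a) := mono_comp l a
  let π := cokernel.π (l ≫ a)
  have hla : l ≫ a ≫ π = 0 := by rw [← Category.assoc]; exact cokernel.condition _
  let a' : K' ⟶ cokernel (l ≫ a) := hSK.exact.desc (a ≫ π) hla
  have ha' : q ≫ a' = a ≫ π := hSK.exact.g_desc _ _
  let b' : cokernel (l ≫ a) ⟶ M' := cokernel.desc _ b (by rw [Category.assoc, hab, comp_zero])
  have hb' : π ≫ b' = b := cokernel.π_desc _ _ _
  have hab' : a' ≫ b' = 0 := by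
    rw [← cancel_epi q, reassoc_of% ha', hb', hab, comp_zero]
  have hepi' : Epi b' := by
    have : Epi (π ≫ b') := by rw [hb']; infer_instance
    exact epi_of_epi π b'
  have hmono' : Mono a' := by
    let s : PushoutCocone a q := PushoutCocone.mk π a' ha'.symm
    have hs : IsColimit s := PushoutCocone.IsColimit.mk _
      (fun t => cokernel.desc (l ≫ a) t.inl (by
        rw [Category.assoc, t.condition, reassoc_of% hlq, zero_comp]))
      (fun t => cokernel.π_desc _ _ _)
      (fun t => by
        rw [← cancel_epi q, reassoc_of% ha', cokernel.π_desc, t.condition])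
      (fun t m h1 h2 => by
        rw [← cancel_epi π, cokernel.π_desc]
        exact h1)
    exact Abelian.mono_inr_of_isColimit a q hs
  refine ⟨cokernel (l ≫ a), π, a', b', cokernel.condition _, hab', ?_, ?_, hb'⟩
  · exact
      { exact := ShortComplex.exact_cokernel (l ≫ a)
        mono_f := hml
        epi_g := inferInstanceAs (Epi (cokernel.π _)) }
  · exact
      { exact := by
          apply ShortComplex.exact_of_g_is_cokernel
          refine CokernelCofork.IsColimit.ofπ _ _ (fun {T} k hk => hS.exact.desc (π ≫ k) ?_) ?_ ?_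
          · dsimp only
            dsimp only at hk
            rw [← Category.assoc, ← ha', Category.assoc, hk, comp_zero]
          · intro T k hk
            dsimp only
            rw [← cancel_epi π, reassoc_of% hb']
            exact hS.exact.g_desc _ _
          · intro T k hk m hm
            dsimp only at hm ⊢
            rw [← cancel_epi b, hS.exact.g_desc, ← hm, reassoc_of% hb']
        mono_f := hmono'
        epi_g := hepi' }

theorem push_congr {X Y : Scheme.{u}} {δX : X → ℤ} {δY : Y → ℤ} (hX : IsSetup X δX)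
    (hY : IsSetup Y δY) {f g : X ⟶ Y} (e : f = g) [IsProper f] [IsProper g]
    (hf : DeltaCompat f δX δY) (hg : DeltaCompat g δX δY) (a : G X δX) :
    push hX hY f hf a = push hX hY g hg a := by
  subst e
  rfl

theorem ec_cons_length (Ls : List S.Modules) (L : S.Modules) :
    ec δS (L :: Ls) (Ls.length + 1) = C1 δS L * ec δS Ls Ls.length := by
  rw [ec_cons_succ, ec_eq_zero δS Ls (Nat.lt_succ_self _), zero_add]

/-- **Push forward along a sub-bundle with filtered quotient.** -/
theorem chain {m : ℕ} {M' : S.Modules} (W : VB S δS M' m) (x : G S δS) :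
    ∀ (Ms : List S.Modules) {K M : S.Modules} {n : ℕ} (_ : n = Ms.length + m)
      (V : VB S δS M n) (a : K ⟶ M) (b : M ⟶ M') (hab : a ≫ b = 0)
      (_ : (ShortComplex.mk a b hab).ShortExact) (_ : FL Ms K) (φ : V.A ⟶ W.A)
      (_ : V.j ≫ RelSpec.QCAlg.Hom.toModuleMap φ = b ≫ W.j)
      [IsProper (RelSpec.QCAlg.specMap φ)],
      ps φ (W.pl x) = V.pl (ec δS (Ms.map dl) Ms.length x) := by
  intro Ms
  induction Ms with
  | nil =>
    intro K M n hn V a b hab hS hK φ hφ _
    obtain rfl : n = m := by rw [hn, List.length_nil, zero_add]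
    have h0 : IsZero K := hK
    have := hS.epi_g
    have hm : Mono b := hS.exact.mono_g (IsZero.eq_of_src h0 _ _)
    have : IsIso b := isIso_of_mono_of_epi b
    obtain rfl := V.eq_mor W b hφ
    have h1 : V.mor W b ≫ W.mor V (inv b) = 𝟙 V.A := by
      rw [mor_comp, IsIso.hom_inv_id]
      exact (V.eq_mor V (𝟙 M) (by
        have h1 : RelSpec.QCAlg.Hom.toModuleMap (𝟙 V.A) = 𝟙 _ := rfl
        rw [h1, Category.comp_id, Category.id_comp])).symm
    have h2 : W.mor V (inv b) ≫ V.mor W b = 𝟙 W.A := by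
      rw [mor_comp, IsIso.inv_hom_id]
      exact (W.eq_mor W (𝟙 M') (by
        have h1 : RelSpec.QCAlg.Hom.toModuleMap (𝟙 W.A) = 𝟙 _ := rfl
        rw [h1, Category.comp_id, Category.id_comp])).symm
    have : IsIso (RelSpec.QCAlg.specMap (V.mor W b)) :=
      ⟨RelSpec.QCAlg.specMap (W.mor V (inv b)), by
        rw [← K36.SpecLocal.specMap_comp, h2, K36.SpecLocal.specMap_id], by
        rw [← K36.SpecLocal.specMap_comp, h1, K36.SpecLocal.specMap_id]⟩
    rw [ps_pl_iso]
    congr 1
    rw [List.map_nil, List.length_nil, ec_zero]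
    rfl
  | cons L Ms ih =>
    intro K M n hn V a b hab hS hK φ hφ _
    obtain rfl : n = (Ms.length + m) + 1 := by rw [hn, List.length_cons]; ring
    obtain ⟨K', l, q, hlq, hSK, hL, hK'⟩ := hK
    obtain ⟨M₁, p, a', b', hp, hab', hS1, hS2, hpb⟩ := exists_third l q hlq hSK a b hab hS
    have hr : FlatMod.IsFinLocFreeOfRank (Ms.length + m) M₁ :=
      Groth.Agent.Krr.H487.KerRank.isFinLocFreeOfRank_mid hS2 hK'.rank W.rk
    obtain ⟨V₁⟩ := VB.nonempty V.base hr
    have := hS1.epi_g
    have : Epi p := this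
    have : Epi b' := hS2.epi_g
    have e : V.mor V₁ p ≫ V₁.mor W b' = φ := by
      rw [mor_comp, hpb]
      exact (V.eq_mor W b hφ).symm
    subst e
    have h1 := ih rfl V₁ a' b' hab' hS2 hK' (V₁.mor W b') (V₁.j_mor W b')
    have h2 := ps_pl_one V V₁ (l ≫ a) p hp hS1 hL (V.mor V₁ p) (V.j_mor V₁ p)
      (ec δS (Ms.map dl) Ms.length x)
    have h3 : ps (V.mor V₁ p ≫ V₁.mor W b') (W.pl x) =
        ps (V.mor V₁ p) (ps (V₁.mor W b') (W.pl x)) := by
      rw [ps, ps, ps, push_push W.setup V₁.setup V.setup _ _ _ _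
        (RelDim.deltaCompat_comp (compat_specMap (V₁.mor W b')) (compat_specMap (V.mor V₁ p)))]
      exact push_congr _ _ (K36.SpecLocal.specMap_comp (V.mor V₁ p) (V₁.mor W b')) _ _ _
    rw [h3, h1, h2]
    congr 1
    rw [List.map_cons, List.length_cons]
    have h4 := ec_cons_length (δS := δS) (Ms.map dl) (dl L)
    rw [List.length_map] at h4
    rw [h4]
    rfl

end K305.VBChain
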