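import Groth.Agent.Cyc.K305.VBPt

/-!
# Scaling points of vector bundles
-/

set_option autoImplicit false
universe u

open CategoryTheory CategoryTheory.Limits AlgebraicGeometry Opposite TopologicalSpace

namespace K305.VBScale

open Groth.Agent.Fdesc.LocGen K36.QSpec K36.SymAlg K305.VBBC K305.VBPt

variable {S : Scheme.{u}} {A : RelSpec.QCAlg S} {T T' : Scheme.{u}} {f : T ⟶ S} {f' : T' ⟶ S}
variable {E : S.Modules} {j : E ⟶ A.toModule}

theorem fn_res (g : T ⟶ A.spec) (hf : g ≫ A.π = f) {U V : S.Opens} (h : V ≤ U)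
    (x : A.presheaf.obj (op U)) : fn g hf V ((A.presheaf.map (homOfLE h).op).hom x) =
      T.presheaf.map (homOfLE (f.preimage_mono h)).op (fn g hf U x) := by
  have h2 : A.presheaf.map (homOfLE h).op ≫ fn g hf V =
      fn g hf U ≫ T.presheaf.map (homOfLE (f.preimage_mono h)).op := by
    rw [fn, fn, ← Category.assoc, thetaApp_res, Category.assoc, Category.assoc,
      Scheme.Hom.map_appLE, Scheme.Hom.appLE_map]
  exact congr(($h2).hom x)

/-- Restriction of a global function. -/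
noncomputable def rs (W : T.Opens) : Γ(T, ⊤) →+* Γ(T, W) := (T.presheaf.map (homOfLE le_top).op).hom

theorem rs_res {W W' : T.Opens} (h : W' ≤ W) (c : Γ(T, ⊤)) :
    T.presheaf.map (homOfLE h).op (rs W c) = rs W' c := by
  have h1 : T.presheaf.map (homOfLE (le_top : W ≤ ⊤)).op ≫ T.presheaf.map (homOfLE h).op =
      T.presheaf.map (homOfLE le_top).op := by
    rw [← Functor.map_comp]
    rfl
  exact congr(($h1).hom c)

theorem appLE_rs (p : T' ⟶ T) (W : T.Opens) (W' : T'.Opens) (h : W' ≤ p ⁻¹ᵁ W) (c : Γ(T, ⊤)) :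
    p.appLE W W' h (rs W c) = rs W' (p.appTop c) := by
  have h1 : T.presheaf.map (homOfLE (le_top : W ≤ ⊤)).op ≫ p.appLE W W' h =
      p.appTop ≫ T'.presheaf.map (homOfLE le_top).op := by
    rw [Scheme.Hom.map_appLE]
    rfl
  exact congr(($h1).hom c)

/-- **Scaling.** -/
theorem exists_scale (hE : Coh.IsQCoh E) (hA : RelSpec.IsSymAlg E A j) (g : T ⟶ A.spec)
    (hf : g ≫ A.π = f) (c : Γ(T, ⊤)) :
    ∃ (g' : T ⟶ A.spec) (hf' : g' ≫ A.π = f), ∀ (U : S.Opens), IsAffineOpen U → ∀ e : Γ(E, U),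
      fn g' hf' U (jApp E A j U e) = rs (f ⁻¹ᵁ U) c * fn g hf U (jApp E A j U e) := by
  refine exists_pt hE hA f (fun U => AddMonoidHom.mk'
    (fun e => rs (f ⁻¹ᵁ U) c * fn g hf U (jApp E A j U e)) fun a b => ?_) ?_ ?_
  · rw [map_add, map_add, mul_add]
  · intro U r e
    change rs (f ⁻¹ᵁ U) c * fn g hf U (jApp E A j U (r • e)) =
      f.app U r * (rs (f ⁻¹ᵁ U) c * fn g hf U (jApp E A j U e))
    rw [jApp_smul, map_mul, str_fn]
    ring
  · intro U V h e
    change rs (f ⁻¹ᵁ V) c * fn g hf V (jApp E A j V (res E h e)) =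
      T.presheaf.map (homOfLE (f.preimage_mono h)).op (rs (f ⁻¹ᵁ U) c * fn g hf U (jApp E A j U e))
    have h1 : jApp E A j V (res E h e) = (A.presheaf.map (homOfLE h).op).hom (jApp E A j U e) :=
      jApp_res E A j h e
    rw [map_mul, rs_res, h1, fn_res]

/-! ### the linear function of a section -/

/-- The global function of a point given by a section of `E`. -/
noncomputable def tau (a : Coh.structureModule S ⟶ E) (j : E ⟶ A.toModule) (g : T ⟶ A.spec)
    (hf : g ≫ A.π = f) : Γ(T, ⊤) := fn g hf ⊤ (jApp E A j ⊤ (sec a ⊤))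

variable (a : Coh.structureModule S ⟶ E)

theorem rs_tau (g : T ⟶ A.spec) (hf : g ≫ A.π = f) (U : S.Opens) :
    rs (f ⁻¹ᵁ U) (tau a j g hf) = fn g hf U (jApp E A j U (sec a U)) := by
  have h1 := fn_res g hf (le_top : U ≤ ⊤) (jApp E A j ⊤ (sec a ⊤))
  rw [← jApp_res] at h1
  have h2 : sec a U = res E (le_top : U ≤ ⊤) (sec a ⊤) := (res_sec a le_top).symm
  rw [h2]
  exact h1.symm

theorem eq_of_rs {c c' : Γ(T, ⊤)} (f : T ⟶ S)
    (h : ∀ (U : S.Opens), IsAffineOpen U → rs (f ⁻¹ᵁ U) c = rs (f ⁻¹ᵁ U) c') : c = c' := by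
  choose U hU hx using fun x : S => (Opens.isBasis_iff_nbhd.mp S.isBasis_affineOpens)
    (show x ∈ (⊤ : S.Opens) from trivial)
  refine TopCat.Sheaf.eq_of_locally_eq' T.sheaf (fun x : S => f ⁻¹ᵁ U x) ⊤
    (fun x => homOfLE le_top) (fun y _ => Opens.mem_iSup.2 ⟨f y, (hx _).1⟩) _ _ fun x => ?_
  exact h _ (hU x)

theorem tau_comp (p : T' ⟶ T) (g : T ⟶ A.spec) (hf : g ≫ A.π = f)
    (hf' : (p ≫ g) ≫ A.π = f') : tau a j (p ≫ g) hf' = p.appTop (tau a j g hf) := by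
  subst hf'
  subst hf
  unfold tau
  rw [fn_comp p g rfl rfl ⊤ le_rfl]
  have h1 : p.appLE ⊤ ⊤ le_rfl = p.appTop := Scheme.Hom.appLE_eq_app (f := p) (U := ⊤)
  exact congr(($h1).hom _)

theorem tau_congr {f₁ f₂ : T ⟶ S} {g₁ g₂ : T ⟶ A.spec} (hg : g₁ = g₂) (hf₁ : g₁ ≫ A.π = f₁)
    (hf₂ : g₂ ≫ A.π = f₂) : tau a j g₁ hf₁ = tau a j g₂ hf₂ := by
  subst hg
  subst hf₁
  subst hf₂
  rfl

end K305.VBScale
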