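import Groth.Agent.Cyc.K305.VBChain
import Groth.Agent.TautSh.K994.PullHom

/-!
# `i_* π'^* = π^* c_top`
-/

set_option autoImplicit false
universe u

open CategoryTheory CategoryTheory.Limits AlgebraicGeometry Opposite TopologicalSpace

namespace K305.VBTop

open Cyc K308.Grp K36.SymAlg K305.VBLoc K305.VBInj K305.VBCosec K305.VBCap K305.VBCap.VB
open K305.VBChain
open Groth.Agent.CycB Groth.Agent.CycB.DivFun
open Groth.Agent.Grpsch.PicGrp

/-- The dual of a finite locally free module commutes with pullback. -/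
theorem nonempty_dl_pullback {X Y : Scheme.{u}} (g : Y ⟶ X) {E : X.Modules}
    (hE : FlatMod.IsFinLocFree E) :
    Nonempty (dl ((Scheme.Modules.pullback g).obj E) ≅ (Scheme.Modules.pullback g).obj (dl E)) := by
  obtain ⟨e⟩ := K994.PullHom.nonempty_iso g hE
    (N := Coh.structureModule X)
    (Groth.Agent.Ega2.QCohLocal.isFinLocFreeOfRank_one_iff.2
      (K305.StructCap.isInvertible_structureModule X))
  have := Groth.Agent.Grpsch.PicGrp.isIso_pullOne g
  have e1 : (Scheme.Modules.pullback g).obj (Coh.structureModule X) ≅ Coh.structureModule Y :=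
    (@asIso _ _ _ _ _ this).symm
  have e2 := (Groth.Agent.Sga2.PnHomAdj.homF
    ((Scheme.Modules.pullback g).obj E)).mapIso e1
  exact ⟨(e ≪≫ e2).symm⟩

variable {X : Scheme.{u}} {δ : X → ℤ}

theorem ec_dl_dl (hX : IsSetup X δ) {Ls : List X.Modules} (hLs : ∀ L ∈ Ls, PicF.IsInvertible L)
    (j : ℕ) (x : G X δ) : ec δ ((Ls.map dl).map dl) j x = ec δ Ls j x := by
  have h : ∀ M ∈ Ls.map dl, PicF.IsInvertible M := by
    intro M hM
    obtain ⟨L, hL, rfl⟩ := List.mem_map.1 hM
    exact isInvertible_dl (hLs L hL)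
  rw [ec_dual hX h, ec_dual hX hLs, smul_smul, ← mul_pow]
  simp

/-- **`i_* π'^* = π^* c_top`** -/
theorem main (hX : IsSetup X δ) {r' e : ℕ} {K M M' E : X.Modules}
    (hE : FlatMod.IsFinLocFreeOfRank e E) (κ : dl E ≅ K) (a : K ⟶ M) (b : M ⟶ M')
    (hab : a ≫ b = 0) (hS : (ShortComplex.mk a b hab).ShortExact) (V : VB X δ M (e + r'))
    (V' : VB X δ M' r') (φ : V.A ⟶ V'.A)
    (hφ : V.j ≫ RelSpec.QCAlg.Hom.toModuleMap φ = b ≫ V'.j)
    [IsProper (RelSpec.QCAlg.specMap φ)]
    (Sp : Splitting hX (fun _ : Fin 1 => E) (fun _ => e)) (y c : G X δ)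
    (hc : Sp.pb c = ec Sp.δ (Sp.Ls 0) e (Sp.pb y)) : ps φ (V'.pl y) = V.pl c := by
  have hfl := Sp.fl
  have := Groth.Agent.Sga67.FlatPre.preservesFiniteLimits_pullback Sp.π
  have hMY := Groth.Agent.Vancyc.H878.Triv.isFinLocFreeOfRank_pullback Sp.π V.rk
  have hMY' := Groth.Agent.Vancyc.H878.Triv.isFinLocFreeOfRank_pullback Sp.π V'.rk
  obtain ⟨W⟩ := VB.nonempty Sp.setup hMY
  obtain ⟨W'⟩ := VB.nonempty Sp.setup hMY'
  have hepi : Epi b := hS.epi_g
  have hSY := hS.map_of_exact (Scheme.Modules.pullback Sp.π)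
  have hepiY : Epi ((Scheme.Modules.pullback Sp.π).map b) := hSY.epi_g
  obtain ⟨v, w, pv, pw, psq⟩ := VBBC2.exists_isPullback Sp.π V.qc V'.qc V.sym V'.sym W.sym W'.sym
    hφ (W.j_mor W' ((Scheme.Modules.pullback Sp.π).map b))
  have lfS : LocallyOfFiniteType Sp.π := inferInstance
  have flv : Flat v := MorphismProperty.of_isPullback (P := @Flat) pv.flip Sp.fl
  have lfv : LocallyOfFiniteType v :=
    MorphismProperty.of_isPullback (P := @LocallyOfFiniteType) pv.flip lfS
  have flw : Flat w := MorphismProperty.of_isPullback (P := @Flat) pw.flip Sp.fl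
  have lfw : LocallyOfFiniteType w :=
    MorphismProperty.of_isPullback (P := @LocallyOfFiniteType) pw.flip lfS
  have hv : DeltaCompat (v ≫ V.A.π) W.δ δ := by
    rw [pv.w]
    exact RelDim.deltaCompat_comp W.compat Sp.compat
  have hw : DeltaCompat (w ≫ V'.A.π) W'.δ δ := by
    rw [pw.w]
    exact RelDim.deltaCompat_comp W'.compat Sp.compat
  have hδv : DeltaCompat v W.δ V.δ := deltaCompat_of_comp' v V.A.π hv V.compat
  have hδw : DeltaCompat w W'.δ V'.δ := deltaCompat_of_comp' w V'.A.π hw V'.compat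
  have shv : Shift v W.δ V.δ (Sp.d : ℤ) :=
    shift_of_hasRelDim (hasRelDim_of_isPullback pv Sp.tower.hasRelDim) hδv
  have shw : Shift w W'.δ V'.δ (Sp.d : ℤ) :=
    shift_of_hasRelDim (hasRelDim_of_isPullback pw Sp.tower.hasRelDim) hδw
  have hinj : Function.Injective (pull W.setup V.setup v shv) :=
    (Sp.tower.baseChange pv.flip).pull_injective pbAll V.setup W.setup hδv shv
  have hcompat : ∀ z : G X δ, pull W.setup V.setup v shv (V.pl z) = W.pl (Sp.pb z) := by
    intro z
    rw [VB.pl, VB.pl, Splitting.pb, pull_pull W.setup V.setup hX v V.A.π shv V.shift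
      (shv.comp V.shift) rfl, VBMain.pull_congr W.setup hX pv.w (add_comm _ _)
      (shv.comp V.shift) (W.shift.comp Sp.shift), ← pull_pull W.setup Sp.setup hX W.A.π Sp.π
      W.shift Sp.shift (W.shift.comp Sp.shift) rfl]
  have hcompat' : ∀ z : G X δ, pull W'.setup V'.setup w shw (V'.pl z) = W'.pl (Sp.pb z) := by
    intro z
    rw [VB.pl, VB.pl, Splitting.pb, pull_pull W'.setup V'.setup hX w V'.A.π shw V'.shift
      (shw.comp V'.shift) rfl, VBMain.pull_congr W'.setup hX pw.w (add_comm _ _)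
      (shw.comp V'.shift) (W'.shift.comp Sp.shift), ← pull_pull W'.setup Sp.setup hX W'.A.π Sp.π
      W'.shift Sp.shift (W'.shift.comp Sp.shift) rfl]
  apply hinj
  rw [hcompat, hc, ps]
  rw [K308.Grp.pull_push V'.setup V.setup W'.setup W.setup psq.flip (compat_specMap φ)
    (compat_specMap (W.mor W' ((Scheme.Modules.pullback Sp.π).map b))) shv shw, hcompat']
  -- the filtration
  obtain ⟨κ'⟩ := nonempty_dl_pullback Sp.π (Groth.Agent.Ega2.QCohLocal.isFinLocFree_of_rank hE)
  have hFL : FL ((Sp.Ls 0).map dl) ((Scheme.Modules.pullback Sp.π).obj K) :=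
    (FL.dual (Sp.filt 0) (Sp.inv 0)).iso (κ' ≪≫ (Scheme.Modules.pullback Sp.π).mapIso κ)
  have hlen : ((Sp.Ls 0).map dl).length = e := by rw [List.length_map, Sp.length 0]
  have key := chain W' (Sp.pb y) ((Sp.Ls 0).map dl) (by rw [hlen]) W
    ((Scheme.Modules.pullback Sp.π).map a) ((Scheme.Modules.pullback Sp.π).map b)
    (by rw [← Functor.map_comp, hab, Functor.map_zero]) hSY hFL
    (W.mor W' ((Scheme.Modules.pullback Sp.π).map b)) (W.j_mor W' _)
  rw [hlen, ec_dl_dl Sp.setup (Sp.inv 0)] at key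
  exact key

end K305.VBTop
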