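import Groth.Agent.CycB.KeyDet
import Mathlib.RingTheory.SimpleModule.Basic
import Mathlib.RingTheory.Finiteness.Prod
import Mathlib.RingTheory.LocalRing.ResidueField.Basic

/-!
# Values of lattices in modules of finite length

Let `B` be a local ring with residue field `κ` and let `A x → B` be a family of rings. For a
`B`-module `V` of finite length and a family `P x` of `A x`-lattices in `V`, `Val n V P g` says that
`g : 𝒟 → ℤ` is the sum of the indices of the images of `P` in the graded pieces of a composition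
series of `V` whose graded pieces are identified with `κ`. Changing the composition series and the
identifications changes `g` by the orders of one element of `κ`.
-/

set_option autoImplicit false

universe u

namespace K305.ValLoc

open Submodule IsLocalRing Groth.Agent.CycB.KeyIdx Groth.Agent.CycB.KeyLat
  Groth.Agent.CycB.KeyDet

section Defs

variable {𝒟 : Type u} (A : 𝒟 → Type u) [∀ x, CommRing (A x)]
  (B : Type u) [CommRing B] [∀ x, Algebra (A x) B]
  (κ : Type u) [Field κ] [Algebra B κ] [∀ x, Algebra (A x) κ] [∀ x, IsScalarTower (A x) B κ]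

/-- `g` is the value of the lattice family `P` along some composition series of `V`. -/
def Val : (n : ℕ) → (V : Type u) → [AddCommGroup V] → [Module B V] →
    [∀ x, Module (A x) V] → [∀ x, IsScalarTower (A x) B V] →
    (∀ x, Submodule (A x) V) → (𝒟 → ℤ) → Prop
  | 0, V, _, _, _, _, _, g => Subsingleton V ∧ g = 0
  | n + 1, V, _, _, _, _, P, g => ∃ φ : V →ₗ[B] κ, Function.Surjective φ ∧
      Val n (LinearMap.ker φ)
        (fun x => (P x).comap ((LinearMap.ker φ).subtype.restrictScalars (A x)))
        (fun x => g x - idx ((P x).map (φ.restrictScalars (A x))) 1)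

end Defs

section Aux

variable {A : Type u} [CommRing A] {V W U : Type*} [AddCommGroup V] [Module A V]
  [AddCommGroup W] [Module A W] [AddCommGroup U] [Module A U]

theorem idx_comap (f : W →ₗ[A] V) (hf : Function.Injective f) (g : V →ₗ[A] U)
    (h : LinearMap.range f = LinearMap.ker g) (P P' : Submodule A V) :
    idx (P.comap f) (P'.comap f) = idx (P ⊓ LinearMap.ker g) (P' ⊓ LinearMap.ker g) := by
  rw [← idx_map_injective f hf, Submodule.map_comap_eq, Submodule.map_comap_eq, h, inf_comm,
    inf_comm _ P']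

/-- Additivity of the index in a short exact sequence `0 → W → V → U`. -/
theorem idx_exact (f : W →ₗ[A] V) (hf : Function.Injective f) (g : V →ₗ[A] U)
    (h : LinearMap.range f = LinearMap.ker g) {P P' : Submodule A V} (hc : Comm P P') :
    idx P P' = idx (P.comap f) (P'.comap f) + idx (P.map g) (P'.map g) := by
  rw [idx_comap f hf g h, ← idx_map g hc]

theorem isLat_comap [IsNoetherianRing A] [IsLocalRing A] (f : W →ₗ[A] V)
    (hf : Function.Injective f) {P : Submodule A V} (h : IsLat ⊤ P) : IsLat ⊤ (P.comap f) where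
  le := le_top
  fg := Submodule.fg_of_fg_map_injective f hf (h.fg.of_le (Submodule.map_comap_le f P))
  abs := by
    intro v _
    obtain ⟨k, hk⟩ := h.abs (f v) trivial
    exact ⟨k, fun r hr => by
      rw [Submodule.mem_comap, map_smul]
      exact hk r hr⟩

theorem isLat_map [IsNoetherianRing A] [IsLocalRing A] (f : V →ₗ[A] W)
    (hf : Function.Surjective f) {P : Submodule A V} (h : IsLat ⊤ P) : IsLat ⊤ (P.map f) := by
  have := h.map_top f
  rwa [LinearMap.range_eq_top.mpr hf] at this

theorem comm_top [IsNoetherianRing A] [IsLocalRing A] {P P' : Submodule A V}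
    (h : IsLat ⊤ P) (h' : IsLat ⊤ P') : Comm P P' := h.comm h'

end Aux

section NK

variable {A : Type u} [CommRing A] [IsNoetherianRing A] [IsLocalRing A]
  {K : Type u} [Field K] [Algebra A K]

theorem isLat_mulLeft {P : Submodule A K} (h : IsLat ⊤ P) {x : K} (hx : x ≠ 0) :
    IsLat ⊤ (P.map (LinearMap.mulLeft A x)) := by
  have := h.map (LinearMap.mulLeft A x)
  rwa [map_top_mulLeft hx] at this

/-- Scaling a lattice. -/
theorem idx_mulLeft (hone : IsLat ⊤ (1 : Submodule A K)) {P : Submodule A K} (h : IsLat ⊤ P)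
    {x : K} (hx : x ≠ 0) :
    idx (P.map (LinearMap.mulLeft A x)) 1 = idx P 1 - nK A x := by
  have h1 := isLat_mulLeft hone hx
  have h2 := isLat_mulLeft h hx
  have e1 := idx_add (h2.comm h1) (h1.comm hone)
  rw [idx_map_injective _ (mulLeft_injective hx)] at e1
  have e2 : nK A x = - idx ((1 : Submodule A K).map (LinearMap.mulLeft A x)) 1 := idx_symm _ _
  linarith

theorem nK_mul' (hone : IsLat ⊤ (1 : Submodule A K)) {x y : K} (hx : x ≠ 0) (hy : y ≠ 0) :
    nK A (x * y) = nK A x + nK A y := by
  have e : (1 : Submodule A K).map (LinearMap.mulLeft A (x * y)) =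
      ((1 : Submodule A K).map (LinearMap.mulLeft A y)).map (LinearMap.mulLeft A x) := by
    rw [← Submodule.map_comp]
    congr 1
    ext z
    simp
  have e1 := idx_mulLeft hone (isLat_mulLeft hone hy) hx
  rw [← e] at e1
  have e2 : nK A (x * y) = - idx ((1 : Submodule A K).map (LinearMap.mulLeft A (x * y))) 1 :=
    idx_symm _ _
  have e3 : nK A y = - idx ((1 : Submodule A K).map (LinearMap.mulLeft A y)) 1 := idx_symm _ _
  linarith

theorem nK_inv (hone : IsLat ⊤ (1 : Submodule A K)) {x : K} (hx : x ≠ 0) :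
    nK A x⁻¹ = - nK A x := by
  have e := nK_mul' hone hx (inv_ne_zero hx)
  rw [mul_inv_cancel₀ hx, nK_one] at e
  linarith

end NK

section Basic

variable {𝒟 : Type u} {A : 𝒟 → Type u} [∀ x, CommRing (A x)]
  {B : Type u} [CommRing B] [∀ x, Algebra (A x) B]
  {κ : Type u} [Field κ] [Algebra B κ] [∀ x, Algebra (A x) κ] [∀ x, IsScalarTower (A x) B κ]

/-- Transport along an isomorphism. -/
theorem Val.congr (n : ℕ) : ∀ {V V' : Type u} [AddCommGroup V] [Module B V]
    [∀ x, Module (A x) V] [∀ x, IsScalarTower (A x) B V]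
    [AddCommGroup V'] [Module B V'] [∀ x, Module (A x) V'] [∀ x, IsScalarTower (A x) B V']
    (e : V ≃ₗ[B] V') (P : ∀ x, Submodule (A x) V) (P' : ∀ x, Submodule (A x) V')
    (_ : ∀ x v, v ∈ P x ↔ e v ∈ P' x) {g : 𝒟 → ℤ},
    Val A B κ n V P g → Val A B κ n V' P' g := by
  induction n with
  | zero =>
    intro V V' _ _ _ _ _ _ _ _ e P P' _ g h
    obtain ⟨h1, h2⟩ := h
    exact ⟨e.symm.toEquiv.subsingleton, h2⟩
  | succ n ih =>
    intro V V' _ _ _ _ _ _ _ _ e P P' hP g h
    obtain ⟨φ, hφ, hv⟩ := h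
    refine ⟨φ ∘ₗ e.symm.toLinearMap, hφ.comp e.symm.surjective, ?_⟩
    have hk : (LinearMap.ker φ).map e.toLinearMap = LinearMap.ker (φ ∘ₗ e.symm.toLinearMap) := by
      ext v
      constructor
      · rintro ⟨w, hw, rfl⟩
        rw [LinearMap.mem_ker, LinearMap.comp_apply]
        change φ (e.symm (e w)) = 0
        rw [e.symm_apply_apply]
        exact hw
      · intro hv
        exact ⟨e.symm v, hv, e.apply_symm_apply v⟩
    have hm : (fun x => g x - idx ((P' x).map
        ((φ ∘ₗ e.symm.toLinearMap).restrictScalars (A x))) 1) =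
        (fun x => g x - idx ((P x).map (φ.restrictScalars (A x))) 1) := by
      funext x
      congr 2
      ext c
      constructor
      · rintro ⟨w, hw, rfl⟩
        refine ⟨e.symm w, ?_, rfl⟩
        rw [SetLike.mem_coe, hP, e.apply_symm_apply]
        exact hw
      · rintro ⟨w, hw, rfl⟩
        refine ⟨e w, ?_, ?_⟩
        · exact (hP x w).mp hw
        · change φ (e.symm (e w)) = φ w
          rw [e.symm_apply_apply]
    rw [hm]
    refine ih (e.ofSubmodules _ _ hk) _ _ ?_ hv
    intro x v
    exact hP x v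

/-- Change of the lattice. -/
theorem Val.change [∀ x, IsNoetherianRing (A x)] [∀ x, IsLocalRing (A x)]
    (hone : ∀ x, IsLat ⊤ (1 : Submodule (A x) κ)) (n : ℕ) :
    ∀ {V : Type u} [AddCommGroup V] [Module B V]
    [∀ x, Module (A x) V] [∀ x, IsScalarTower (A x) B V]
    {P P' : ∀ x, Submodule (A x) V} (_ : ∀ x, IsLat ⊤ (P x)) (_ : ∀ x, IsLat ⊤ (P' x))
    {g : 𝒟 → ℤ}, Val A B κ n V P g → Val A B κ n V P' (fun x => g x + idx (P' x) (P x)) := by
  induction n with
  | zero =>
    intro V _ _ _ _ P P' _ _ g h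
    obtain ⟨h1, h2⟩ := h
    refine ⟨h1, ?_⟩
    funext x
    have : P' x = P x := Subsingleton.elim _ _
    simp [h2, this]
  | succ n ih =>
    intro V _ _ _ _ P P' hP hP' g h
    obtain ⟨φ, hφ, hv⟩ := h
    refine ⟨φ, hφ, ?_⟩
    have hinj : ∀ x, Function.Injective ((LinearMap.ker φ).subtype.restrictScalars (A x)) :=
      fun x => Subtype.val_injective
    have := ih (fun x => isLat_comap _ (hinj x) (hP x)) (fun x => isLat_comap _ (hinj x) (hP' x)) hv
    convert this using 1
    funext x
    have hr : LinearMap.range ((LinearMap.ker φ).subtype.restrictScalars (A x)) =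
        LinearMap.ker (φ.restrictScalars (A x)) := by
      ext v
      constructor
      · rintro ⟨w, rfl⟩
        exact w.2
      · intro hv
        exact ⟨⟨v, hv⟩, rfl⟩
    have e1 := idx_exact _ (hinj x) (φ.restrictScalars (A x)) hr ((hP' x).comm (hP x))
    have l1 : IsLat ⊤ ((P x).map (φ.restrictScalars (A x))) := isLat_map (φ.restrictScalars (A x)) hφ (hP x)
    have l2 : IsLat ⊤ ((P' x).map (φ.restrictScalars (A x))) := isLat_map (φ.restrictScalars (A x)) hφ (hP' x)
    have e2 := idx_add (l2.comm l1) (l1.comm (hone x))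
    linarith

theorem length_kappa (hs : Function.Surjective (algebraMap B κ)) : Module.length B κ = 1 := by
  rw [Module.length_eq_of_surjective (S := B) (R := κ) hs, Module.length_eq_one_iff]
  infer_instance

theorem Val.length (hs : Function.Surjective (algebraMap B κ)) (n : ℕ) :
    ∀ {V : Type u} [AddCommGroup V] [Module B V]
    [∀ x, Module (A x) V] [∀ x, IsScalarTower (A x) B V]
    {P : ∀ x, Submodule (A x) V}
    {g : 𝒟 → ℤ}, Val A B κ n V P g → Module.length B V = n := by
  induction n with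
  | zero =>
    intro V _ _ _ _ P g h
    obtain ⟨h1, h2⟩ := h
    rw [Module.length_eq_zero_iff.mpr h1]
    rfl
  | succ n ih =>
    intro V _ _ _ _ P g h
    obtain ⟨φ, hφ, hv⟩ := h
    rw [Module.length_eq_add_of_exact (LinearMap.ker φ).subtype φ Subtype.val_injective hφ
      (LinearMap.exact_subtype_ker_map φ), ih hv, length_kappa hs]
    rfl

/-- A nonzero module of finite type over the local ring `B` has a quotient isomorphic to `κ`. -/
theorem exists_surj [IsLocalRing B] (hs : Function.Surjective (algebraMap B κ))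
    (V : Type u) [AddCommGroup V] [Module B V] [Module.Finite B V] [Nontrivial V] :
    ∃ φ : V →ₗ[B] κ, Function.Surjective φ := by
  obtain ⟨W, hW⟩ := IsCoatomic.exists_coatom (Submodule B V)
  have hsimple : IsSimpleModule B (V ⧸ W) := isSimpleModule_iff_isCoatom.mpr hW
  obtain ⟨m, hm, ⟨e⟩⟩ := isSimpleModule_iff_quot_maximal.mp hsimple
  have hk : RingHom.ker (algebraMap B κ) = m := by
    have h1 : (RingHom.ker (algebraMap B κ)).IsMaximal := RingHom.ker_isMaximal_of_surjective _ hs
    rw [IsLocalRing.eq_maximalIdeal h1, IsLocalRing.eq_maximalIdeal hm]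
  have hk' : LinearMap.ker (Algebra.linearMap B κ) = m := hk
  let e2 : (B ⧸ m) ≃ₗ[B] κ := (Submodule.quotEquivOfEq _ _ hk'.symm).trans
    (LinearMap.quotKerEquivOfSurjective (Algebra.linearMap B κ) hs)
  exact ⟨(e.trans e2).toLinearMap ∘ₗ W.mkQ, (e.trans e2).surjective.comp W.mkQ_surjective⟩

/-- Existence. -/
theorem exists_val [IsLocalRing B] (hs : Function.Surjective (algebraMap B κ)) (n : ℕ) :
    ∀ (V : Type u) [AddCommGroup V] [Module B V]
    [∀ x, Module (A x) V] [∀ x, IsScalarTower (A x) B V]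
    (P : ∀ x, Submodule (A x) V), Module.length B V = n → ∃ g : 𝒟 → ℤ, Val A B κ n V P g := by
  induction n with
  | zero =>
    intro V _ _ _ _ P h
    exact ⟨0, Module.length_eq_zero_iff.mp (by simpa using h), rfl⟩
  | succ n ih =>
    intro V _ _ _ _ P h
    have hfl : IsFiniteLength B V := by
      rw [← Module.length_ne_top_iff, h]
      exact ENat.natCast_ne_top _
    have hfin : Module.Finite B V := by
      have := (isFiniteLength_iff_isNoetherian_isArtinian.mp hfl).1
      infer_instance
    have hnt : Nontrivial V := by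
      rw [← not_subsingleton_iff_nontrivial, ← Module.length_eq_zero_iff (R := B), h]
      simp
    obtain ⟨φ, hφ⟩ := exists_surj (κ := κ) hs V
    have e := Module.length_eq_add_of_exact (LinearMap.ker φ).subtype φ Subtype.val_injective hφ
      (LinearMap.exact_subtype_ker_map φ)
    rw [h, length_kappa hs] at e
    have e' : Module.length B (LinearMap.ker φ) = n := by
      have : (Module.length B (LinearMap.ker φ)) + 1 = (n : ℕ∞) + 1 := by
        rw [← e]; push_cast; rfl
      exact ENat.add_left_injective_of_ne_top ENat.one_ne_top this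
    obtain ⟨g, hg⟩ := ih (LinearMap.ker φ)
      (fun x => (P x).comap ((LinearMap.ker φ).subtype.restrictScalars (A x))) e'
    refine ⟨fun x => g x + idx ((P x).map (φ.restrictScalars (A x))) 1, φ, hφ, ?_⟩
    convert hg using 1
    funext x
    ring

end Basic

theorem idx_diamond {A : Type u} [CommRing A] [IsNoetherianRing A] [IsLocalRing A]
    {K : Type u} [Field K] [Algebra A K] (hone : IsLat ⊤ (1 : Submodule A K))
    {V : Type u} [AddCommGroup V] [Module A V] (φ ψ : V →ₗ[A] K)
    (hs : Function.Surjective (φ.prod ψ)) {P : Submodule A V} (hP : IsLat ⊤ P) :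
    idx (P.map φ) 1 + idx ((P ⊓ LinearMap.ker φ).map ψ) 1 =
      idx (P.map ψ) 1 + idx ((P ⊓ LinearMap.ker ψ).map φ) 1 := by
  have hQ : IsLat ⊤ (P.map (φ.prod ψ)) := isLat_map _ hs hP
  have hL : IsLat ⊤ ((1 : Submodule A K).prod (1 : Submodule A K)) := by
    refine ⟨le_top, _root_.Submodule.FG.prod hone.fg hone.fg, ?_⟩
    rintro ⟨a, b⟩ _
    obtain ⟨k, hk⟩ := hone.abs a trivial
    obtain ⟨l, hl⟩ := hone.abs b trivial
    refine ⟨k ⊔ l, fun r hr => ⟨?_, ?_⟩⟩
    · exact hk r (Ideal.pow_le_pow_right le_sup_left hr)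
    · exact hl r (Ideal.pow_le_pow_right le_sup_right hr)
  have e1 := idx_map (LinearMap.fst A K K) (hQ.comm hL)
  have e2 := idx_map (LinearMap.snd A K K) (hQ.comm hL)
  have a1 : (P.map (φ.prod ψ)) ⊓ LinearMap.ker (LinearMap.fst A K K) =
      ((P ⊓ LinearMap.ker φ).map ψ).map (LinearMap.inr A K K) := by
    ext ⟨a, b⟩
    constructor
    · rintro ⟨⟨v, hv, hvab⟩, h0⟩
      have h0' : a = 0 := h0
      obtain ⟨h1, h2⟩ := Prod.ext_iff.mp (show (φ v, ψ v) = (a, b) from hvab)
      refine ⟨b, ⟨v, ⟨hv, ?_⟩, h2⟩, ?_⟩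
      · exact h1.trans h0'
      · exact Prod.ext h0'.symm rfl
    · rintro ⟨_, ⟨v, ⟨hv, hv0⟩, rfl⟩, h⟩
      obtain ⟨h1, h2⟩ := Prod.ext_iff.mp (show ((0 : K), ψ v) = (a, b) from h)
      refine ⟨⟨v, hv, ?_⟩, h1.symm⟩
      exact Prod.ext ((show φ v = 0 from hv0).trans h1) h2
  have a2 : (P.map (φ.prod ψ)) ⊓ LinearMap.ker (LinearMap.snd A K K) =
      ((P ⊓ LinearMap.ker ψ).map φ).map (LinearMap.inl A K K) := by
    ext ⟨a, b⟩
    constructor
    · rintro ⟨⟨v, hv, hvab⟩, h0⟩
      have h0' : b = 0 := h0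
      obtain ⟨h1, h2⟩ := Prod.ext_iff.mp (show (φ v, ψ v) = (a, b) from hvab)
      refine ⟨a, ⟨v, ⟨hv, ?_⟩, h1⟩, ?_⟩
      · exact h2.trans h0'
      · exact Prod.ext rfl h0'.symm
    · rintro ⟨_, ⟨v, ⟨hv, hv0⟩, rfl⟩, h⟩
      obtain ⟨h1, h2⟩ := Prod.ext_iff.mp (show (φ v, (0 : K)) = (a, b) from h)
      refine ⟨⟨v, hv, ?_⟩, h2.symm⟩
      exact Prod.ext h1 ((show ψ v = 0 from hv0).trans h2)
  have b1 : ((1 : Submodule A K).prod (1 : Submodule A K)) ⊓ LinearMap.ker (LinearMap.fst A K K) =
      (1 : Submodule A K).map (LinearMap.inr A K K) := by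
    ext ⟨a, b⟩
    constructor
    · rintro ⟨⟨-, hb⟩, h0⟩
      exact ⟨b, hb, Prod.ext (show a = 0 from h0).symm rfl⟩
    · rintro ⟨c, hc, h⟩
      obtain ⟨h1, h2⟩ := Prod.ext_iff.mp (show ((0 : K), c) = (a, b) from h)
      subst h1 h2
      exact ⟨⟨Submodule.zero_mem _, hc⟩, rfl⟩
  have b2 : ((1 : Submodule A K).prod (1 : Submodule A K)) ⊓ LinearMap.ker (LinearMap.snd A K K) =
      (1 : Submodule A K).map (LinearMap.inl A K K) := by
    ext ⟨a, b⟩
    constructor
    · rintro ⟨⟨ha, -⟩, h0⟩
      exact ⟨a, ha, Prod.ext rfl (show b = 0 from h0).symm⟩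
    · rintro ⟨c, hc, h⟩
      obtain ⟨h1, h2⟩ := Prod.ext_iff.mp (show (c, (0 : K)) = (a, b) from h)
      subst h1 h2
      exact ⟨⟨hc, Submodule.zero_mem _⟩, rfl⟩
  have c1 : (P.map (φ.prod ψ)).map (LinearMap.fst A K K) = P.map φ := by
    rw [← Submodule.map_comp, LinearMap.fst_prod]
  have c2 : (P.map (φ.prod ψ)).map (LinearMap.snd A K K) = P.map ψ := by
    rw [← Submodule.map_comp, LinearMap.snd_prod]
  have d1 : ((1 : Submodule A K).prod (1 : Submodule A K)).map (LinearMap.fst A K K) = 1 := by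
    rw [Submodule.prod_map_fst]
  have d2 : ((1 : Submodule A K).prod (1 : Submodule A K)).map (LinearMap.snd A K K) = 1 := by
    rw [Submodule.prod_map_snd]
  rw [a1, b1, c1, d1, idx_map_injective _ LinearMap.inr_injective] at e1
  rw [a2, b2, c2, d2, idx_map_injective _ LinearMap.inl_injective] at e2
  linarith

section Main

variable {𝒟 : Type u} {A : 𝒟 → Type u} [∀ x, CommRing (A x)]
  {B : Type u} [CommRing B] [∀ x, Algebra (A x) B]
  {κ : Type u} [Field κ] [Algebra B κ] [∀ x, Algebra (A x) κ] [∀ x, IsScalarTower (A x) B κ]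

theorem Val.zero (hs : Function.Surjective (algebraMap B κ)) {n : ℕ}
    {V : Type u} [AddCommGroup V] [Module B V]
    [∀ x, Module (A x) V] [∀ x, IsScalarTower (A x) B V] [Subsingleton V]
    {P : ∀ x, Submodule (A x) V} {g : 𝒟 → ℤ} (h : Val A B κ n V P g) : g = 0 := by
  have hl := Val.length hs n h
  rw [Module.length_eq_zero_iff.mpr inferInstance] at hl
  have hn : n = 0 := by exact_mod_cast hl.symm
  subst hn
  exact h.2

/-- A map to `κ` which is not zero is surjective. -/
theorem surjective_of_ne_zero (hs : Function.Surjective (algebraMap B κ))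
    {V : Type u} [AddCommGroup V] [Module B V] (φ : V →ₗ[B] κ) {v : V} (hv : φ v ≠ 0) :
    Function.Surjective φ := by
  intro c
  obtain ⟨b, hb⟩ := hs (c / φ v)
  refine ⟨b • v, ?_⟩
  rw [map_smul, Algebra.smul_def, hb, div_mul_cancel₀ _ hv]

/-- Two surjections onto `κ` with comparable kernels are proportional. -/
theorem exists_smul_of_ker_le (hs : Function.Surjective (algebraMap B κ))
    {V : Type u} [AddCommGroup V] [Module B V] (φ ψ : V →ₗ[B] κ)
    (hφ : Function.Surjective φ) (hψ : Function.Surjective ψ)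
    (h : LinearMap.ker ψ ≤ LinearMap.ker φ) : ∃ c : κ, c ≠ 0 ∧ ∀ w, φ w = c * ψ w := by
  obtain ⟨v, hv⟩ := hψ 1
  have key : ∀ w, φ w = φ v * ψ w := by
    intro w
    obtain ⟨b, hb⟩ := hs (ψ w)
    have hm : w - b • v ∈ LinearMap.ker ψ := by
      rw [LinearMap.mem_ker, map_sub, map_smul, hv, Algebra.smul_def, hb, mul_one, sub_self]
    have h2 := h hm
    rw [LinearMap.mem_ker, map_sub, map_smul, sub_eq_zero, Algebra.smul_def, hb] at h2
    rw [h2, mul_comm]
  refine ⟨φ v, ?_, key⟩
  intro h0
  obtain ⟨w, hw⟩ := hφ 1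
  rw [key, h0, zero_mul] at hw
  exact zero_ne_one hw

/-- Uniqueness up to the orders of one element of `κ`. -/
theorem Val.unique [∀ x, IsNoetherianRing (A x)] [∀ x, IsLocalRing (A x)] [IsLocalRing B]
    (hs : Function.Surjective (algebraMap B κ))
    (hone : ∀ x, IsLat ⊤ (1 : Submodule (A x) κ)) (n : ℕ) :
    ∀ {V : Type u} [AddCommGroup V] [Module B V]
    [∀ x, Module (A x) V] [∀ x, IsScalarTower (A x) B V]
    {P : ∀ x, Submodule (A x) V} (_ : ∀ x, IsLat ⊤ (P x)) {m : ℕ}
    {g g' : 𝒟 → ℤ}, Val A B κ n V P g → Val A B κ m V P g' →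
    ∃ f : κ, f ≠ 0 ∧ ∀ x, g x - g' x = nK (A x) f := by
  induction n with
  | zero =>
    intro V _ _ _ _ P hP m g g' h h'
    have h1 := h.1
    have e1 := h.2
    have e2 := h'.zero hs
    exact ⟨1, one_ne_zero, fun x => by rw [e1, e2, nK_one]; simp⟩
  | succ n ih =>
    intro V _ _ _ _ P hP m g g' h h'
    have hm : m = n + 1 := by
      have e1 := h.length hs
      have e2 := h'.length hs
      rw [e1] at e2
      exact_mod_cast e2.symm
    subst hm
    obtain ⟨φ, hφ, hv⟩ := h
    obtain ⟨ψ, hψ, hw⟩ := h'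
    have hinjφ : ∀ x, Function.Injective ((LinearMap.ker φ).subtype.restrictScalars (A x)) :=
      fun x => Subtype.val_injective
    have hinjψ : ∀ x, Function.Injective ((LinearMap.ker ψ).subtype.restrictScalars (A x)) :=
      fun x => Subtype.val_injective
    by_cases hk : LinearMap.ker φ = LinearMap.ker ψ
    · obtain ⟨c, hc, hcφ⟩ := exists_smul_of_ker_le hs φ ψ hφ hψ hk.ge
      have hw' := Val.congr n (LinearEquiv.ofEq _ _ hk.symm) _
        (fun x => (P x).comap ((LinearMap.ker φ).subtype.restrictScalars (A x)))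
        (fun x v => Iff.rfl) hw
      obtain ⟨f, hf, hfx⟩ := ih (fun x => isLat_comap _ (hinjφ x) (hP x)) hv hw'
      refine ⟨f * c⁻¹, mul_ne_zero hf (inv_ne_zero hc), fun x => ?_⟩
      have e1 := hfx x
      rw [nK_mul' (hone x) hf (inv_ne_zero hc), nK_inv (hone x) hc]
      have e2 : (P x).map (φ.restrictScalars (A x)) =
          ((P x).map (ψ.restrictScalars (A x))).map (LinearMap.mulLeft (A x) c) := by
        rw [← Submodule.map_comp]
        congr 1
        ext w
        exact hcφ w
      have e3 := idx_mulLeft (hone x) (isLat_map (ψ.restrictScalars (A x)) hψ (hP x)) hc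
      rw [← e2] at e3
      linarith
    · -- the two restrictions are surjective
      have h1 : ∃ v : LinearMap.ker φ, ψ v ≠ 0 := by
        by_contra hcon
        push Not at hcon
        apply hk
        have hle : LinearMap.ker φ ≤ LinearMap.ker ψ := fun v hv => hcon ⟨v, hv⟩
        obtain ⟨c, hc, hcψ⟩ := exists_smul_of_ker_le hs ψ φ hψ hφ hle
        refine le_antisymm hle fun v hv => ?_
        rw [LinearMap.mem_ker, hcψ] at hv
        exact (mul_eq_zero.mp hv).resolve_left hc
      have h2 : ∃ v : LinearMap.ker ψ, φ v ≠ 0 := by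
        by_contra hcon
        push Not at hcon
        apply hk
        have hle : LinearMap.ker ψ ≤ LinearMap.ker φ := fun v hv => hcon ⟨v, hv⟩
        obtain ⟨c, hc, hcφ⟩ := exists_smul_of_ker_le hs φ ψ hφ hψ hle
        refine (le_antisymm hle fun v hv => ?_).symm
        rw [LinearMap.mem_ker, hcφ] at hv
        exact (mul_eq_zero.mp hv).resolve_left hc
      obtain ⟨v₁, hv₁⟩ := h1
      obtain ⟨v₂, hv₂⟩ := h2
      have hψ' : Function.Surjective (ψ ∘ₗ (LinearMap.ker φ).subtype) :=
        surjective_of_ne_zero hs _ hv₁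
      have hφ' : Function.Surjective (φ ∘ₗ (LinearMap.ker ψ).subtype) :=
        surjective_of_ne_zero hs _ hv₂
      -- lengths
      have hlen := Val.length hs n hv
      have hlen2 := Module.length_eq_add_of_exact
        (LinearMap.ker (ψ ∘ₗ (LinearMap.ker φ).subtype)).subtype _ Subtype.val_injective hψ'
        (LinearMap.exact_subtype_ker_map _)
      rw [hlen, length_kappa hs] at hlen2
      obtain ⟨n₀, rfl⟩ : ∃ n₀, n = n₀ + 1 := by
        cases n with
        | zero =>
          exfalso
          have h0 : (0 : ℕ∞) = Module.length B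
            (LinearMap.ker (ψ ∘ₗ (LinearMap.ker φ).subtype)) + 1 := hlen2
          exact absurd h0.symm (by simp)
        | succ n₀ => exact ⟨n₀, rfl⟩
      have hlen3 : Module.length B (LinearMap.ker (ψ ∘ₗ (LinearMap.ker φ).subtype)) = n₀ := by
        have : (Module.length B (LinearMap.ker (ψ ∘ₗ (LinearMap.ker φ).subtype))) + 1 =
            (n₀ : ℕ∞) + 1 := by
          rw [← hlen2]; push_cast; rfl
        exact ENat.add_left_injective_of_ne_top ENat.one_ne_top this
      obtain ⟨g₀, hg₀⟩ := exists_val (κ := κ) hs n₀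
        (LinearMap.ker (ψ ∘ₗ (LinearMap.ker φ).subtype))
        (fun x => ((P x).comap ((LinearMap.ker φ).subtype.restrictScalars (A x))).comap
          ((LinearMap.ker (ψ ∘ₗ (LinearMap.ker φ).subtype)).subtype.restrictScalars (A x))) hlen3
      let e : LinearMap.ker (ψ ∘ₗ (LinearMap.ker φ).subtype) ≃ₗ[B]
          LinearMap.ker (φ ∘ₗ (LinearMap.ker ψ).subtype) :=
        { toFun := fun v => ⟨⟨v.1.1, v.2⟩, v.1.2⟩
          invFun := fun v => ⟨⟨v.1.1, v.2⟩, v.1.2⟩
          map_add' := fun _ _ => rfl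
          map_smul' := fun _ _ => rfl
          left_inv := fun _ => rfl
          right_inv := fun _ => rfl }
      have hg₀' := Val.congr n₀ e _
        (fun x => ((P x).comap ((LinearMap.ker ψ).subtype.restrictScalars (A x))).comap
          ((LinearMap.ker (φ ∘ₗ (LinearMap.ker ψ).subtype)).subtype.restrictScalars (A x)))
        (fun x v => Iff.rfl) hg₀
      have k1 : Val A B κ (n₀ + 1) (LinearMap.ker φ)
          (fun x => (P x).comap ((LinearMap.ker φ).subtype.restrictScalars (A x)))
          (fun x => g₀ x + idx (((P x).comap ((LinearMap.ker φ).subtype.restrictScalars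
            (A x))).map ((ψ ∘ₗ (LinearMap.ker φ).subtype).restrictScalars (A x))) 1) := by
        refine ⟨_, hψ', ?_⟩
        convert hg₀ using 1
        funext x
        ring
      have k2 : Val A B κ (n₀ + 1) (LinearMap.ker ψ)
          (fun x => (P x).comap ((LinearMap.ker ψ).subtype.restrictScalars (A x)))
          (fun x => g₀ x + idx (((P x).comap ((LinearMap.ker ψ).subtype.restrictScalars
            (A x))).map ((φ ∘ₗ (LinearMap.ker ψ).subtype).restrictScalars (A x))) 1) := by
        refine ⟨_, hφ', ?_⟩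
        convert hg₀' using 1
        funext x
        ring
      obtain ⟨f₁, hf₁, hfx₁⟩ := ih (fun x => isLat_comap _ (hinjφ x) (hP x)) hv k1
      obtain ⟨f₂, hf₂, hfx₂⟩ := ih (fun x => isLat_comap _ (hinjψ x) (hP x)) hw k2
      refine ⟨f₁ * f₂⁻¹, mul_ne_zero hf₁ (inv_ne_zero hf₂), fun x => ?_⟩
      rw [nK_mul' (hone x) hf₁ (inv_ne_zero hf₂), nK_inv (hone x) hf₂]
      have hsur : Function.Surjective
          ((φ.restrictScalars (A x)).prod (ψ.restrictScalars (A x))) := by
        rintro ⟨a, b⟩
        obtain ⟨v, hv⟩ := hφ' a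
        obtain ⟨w, hw⟩ := hψ' b
        have hv' : φ v = a := hv
        have hw' : ψ w = b := hw
        have hv0 : ψ v = 0 := v.2
        have hw0 : φ w = 0 := w.2
        refine ⟨(v : V) + (w : V), ?_⟩
        change (φ ((v : V) + w), ψ ((v : V) + w)) = (a, b)
        rw [map_add, map_add, hv', hw', hv0, hw0, add_zero, zero_add]
      have d := idx_diamond (hone x) (φ.restrictScalars (A x)) (ψ.restrictScalars (A x)) hsur (hP x)
      have m1 : ((P x).comap ((LinearMap.ker φ).subtype.restrictScalars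
            (A x))).map ((ψ ∘ₗ (LinearMap.ker φ).subtype).restrictScalars (A x)) =
          (P x ⊓ LinearMap.ker (φ.restrictScalars (A x))).map (ψ.restrictScalars (A x)) := by
        ext c
        constructor
        · rintro ⟨v, hv, rfl⟩
          exact ⟨v.1, ⟨hv, v.2⟩, rfl⟩
        · rintro ⟨v, ⟨hv, hv0⟩, rfl⟩
          exact ⟨⟨v, hv0⟩, hv, rfl⟩
      have m2 : ((P x).comap ((LinearMap.ker ψ).subtype.restrictScalars
            (A x))).map ((φ ∘ₗ (LinearMap.ker ψ).subtype).restrictScalars (A x)) =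
          (P x ⊓ LinearMap.ker (ψ.restrictScalars (A x))).map (φ.restrictScalars (A x)) := by
        ext c
        constructor
        · rintro ⟨v, hv, rfl⟩
          exact ⟨v.1, ⟨hv, v.2⟩, rfl⟩
        · rintro ⟨v, ⟨hv, hv0⟩, rfl⟩
          exact ⟨⟨v, hv0⟩, hv, rfl⟩
      have e1 := hfx₁ x
      have e2 := hfx₂ x
      rw [m1] at e1
      rw [m2] at e2
      linarith

/-- Additivity in short exact sequences. -/
theorem Val.exact (n'' : ℕ) :
    ∀ {V' V V'' : Type u} [AddCommGroup V'] [Module B V']
    [∀ x, Module (A x) V'] [∀ x, IsScalarTower (A x) B V']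
    [AddCommGroup V] [Module B V] [∀ x, Module (A x) V] [∀ x, IsScalarTower (A x) B V]
    [AddCommGroup V''] [Module B V''] [∀ x, Module (A x) V''] [∀ x, IsScalarTower (A x) B V'']
    (j : V' →ₗ[B] V) (p : V →ₗ[B] V'') (_ : Function.Injective j) (_ : Function.Surjective p)
    (_ : LinearMap.range j = LinearMap.ker p)
    {P : ∀ x, Submodule (A x) V} {P' : ∀ x, Submodule (A x) V'} {P'' : ∀ x, Submodule (A x) V''}
    (_ : ∀ x v, v ∈ P' x ↔ j v ∈ P x) (_ : ∀ x v, v ∈ P'' x ↔ ∃ w ∈ P x, p w = v)
    {n' : ℕ} {g' g'' : 𝒟 → ℤ}, Val A B κ n' V' P' g' →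
      Val A B κ n'' V'' P'' g'' → Val A B κ (n' + n'') V P (fun x => g' x + g'' x) := by
  induction n'' with
  | zero =>
    intro V' V V'' _ _ _ _ _ _ _ _ _ _ _ _ j p hj hp hex P P' P'' hP' hP'' n' g' g'' h' h''
    have hsub := h''.1
    have h0 := h''.2
    have hjs : Function.Surjective j := by
      rw [← LinearMap.range_eq_top, hex, LinearMap.ker_eq_top]
      ext v
      exact Subsingleton.elim _ _
    have := Val.congr n' (LinearEquiv.ofBijective j ⟨hj, hjs⟩) P' P hP' h'
    have hg : (fun x => g' x + g'' x) = g' := by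
      funext x
      simp [h0]
    rw [hg]
    exact this
  | succ n'' ih =>
    intro V' V V'' _ _ _ _ _ _ _ _ _ _ _ _ j p hj hp hex P P' P'' hP' hP'' n' g' g'' h' h''
    obtain ⟨φ, hφ, hv⟩ := h''
    have hmem : ∀ v ∈ LinearMap.ker (φ ∘ₗ p), p v ∈ LinearMap.ker φ := fun v hv => hv
    have hjm : ∀ v, j v ∈ LinearMap.ker (φ ∘ₗ p) := by
      intro v
      have : j v ∈ LinearMap.ker p := by rw [← hex]; exact ⟨v, rfl⟩
      rw [LinearMap.mem_ker] at this
      rw [LinearMap.mem_ker, LinearMap.comp_apply, this, map_zero]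
    refine ⟨φ ∘ₗ p, hφ.comp hp, ?_⟩
    have key := ih (j.codRestrict (LinearMap.ker (φ ∘ₗ p)) hjm) (p.restrict hmem)
      (P := fun x => (P x).comap ((LinearMap.ker (φ ∘ₗ p)).subtype.restrictScalars (A x)))
      (P'' := fun x => (P'' x).comap ((LinearMap.ker φ).subtype.restrictScalars (A x)))
      (fun a b hab => hj (congrArg Subtype.val hab))
      (fun v => by
        obtain ⟨w, hw⟩ := hp v.1
        refine ⟨⟨w, ?_⟩, Subtype.ext hw⟩
        rw [LinearMap.mem_ker, LinearMap.comp_apply, hw]
        exact v.2)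
      (by
        ext v
        constructor
        · rintro ⟨w, rfl⟩
          have : j w ∈ LinearMap.ker p := by rw [← hex]; exact ⟨w, rfl⟩
          exact Subtype.ext this
        · intro hv
          have hv' : v.1 ∈ LinearMap.ker p := congrArg Subtype.val hv
          rw [← hex] at hv'
          obtain ⟨w, hw⟩ := hv'
          exact ⟨w, Subtype.ext hw⟩)
      hP'
      (fun x v => by
        change v.1 ∈ P'' x ↔ _
        rw [hP'']
        constructor
        · rintro ⟨w, hw, hwv⟩
          refine ⟨⟨w, ?_⟩, hw, Subtype.ext hwv⟩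
          rw [LinearMap.mem_ker, LinearMap.comp_apply, hwv]
          exact v.2
        · rintro ⟨w, hw, hwv⟩
          exact ⟨w.1, hw, congrArg Subtype.val hwv⟩)
      h' hv
    have hg : (fun x => g' x + g'' x - idx ((P x).map ((φ ∘ₗ p).restrictScalars (A x))) 1) =
        (fun x => g' x + (g'' x - idx ((P'' x).map (φ.restrictScalars (A x))) 1)) := by
      funext x
      have : (P x).map ((φ ∘ₗ p).restrictScalars (A x)) =
          (P'' x).map (φ.restrictScalars (A x)) := by
        ext c
        constructor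
        · rintro ⟨w, hw, rfl⟩
          exact ⟨p w, (hP'' x _).mpr ⟨w, hw, rfl⟩, rfl⟩
        · rintro ⟨w, hw, rfl⟩
          obtain ⟨u, hu, rfl⟩ := (hP'' x _).mp hw
          exact ⟨u, hu, rfl⟩
      rw [this]
      ring
    rw [hg]
    exact key

end Main

end K305.ValLoc
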